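import Mathlib
import Cfsg.Agent.Helper9.AltGen.EnumC2

set_option autoImplicit false
set_option Elab.async false

/-!
The primes of the search on 7 and on 13 points, and the enumeration on 7 points.
-/

namespace Cfsg.Agent.Helper9.AltGen

open Cfsg.Agent.Helper9.T11

/-- the primes of the search on 13 points, with their masks and targets. -/
def ps13 : List (ℕ × ℕ × ℕ) := [(3, 4223155694530575, 12288), (5, 16492690145295, 5242880), (7, 4026531855, 1879048192), (2, 4238682002231055, 512)]

theorem ps13_ok : PrimesOK 13 ps13 := by
  intro e he
  simp only [ps13, List.mem_cons, List.not_mem_nil, or_false] at he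
  rcases he with rfl | rfl | rfl | rfl
  · exact ⟨by norm_num, by norm_num, by decide⟩
  · exact ⟨by norm_num, by norm_num, by decide⟩
  · exact ⟨by norm_num, by norm_num, by decide⟩
  · exact ⟨by norm_num, by norm_num, by decide⟩

/-- the primes of the search on 7 points, with their masks and targets. -/
def ps7 : List (ℕ × ℕ × ℕ) := [(3, 251719695, 12288), (2, 252645135, 512)]

theorem ps7_ok : PrimesOK 7 ps7 := by
  intro e he
  simp only [ps7, List.mem_cons, List.not_mem_nil, or_false] at he
  rcases he with rfl | rfl
  · exact ⟨by norm_num, by norm_num, by decide⟩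
  · exact ⟨by norm_num, by norm_num, by decide⟩

set_option maxRecDepth 100000 in
theorem tw7 : enumC 7 (searchF 7 ps7) 3 784 15 3 = true := by
  decide +kernel

end Cfsg.Agent.Helper9.AltGen
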