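import Mathlib
import Cfsg.Agent.Helper9.AltGen.Tw.Base

set_option autoImplicit false
set_option Elab.async false

/-!
A part of the enumeration on 13 points: the search holds at every cycle of the part.
-/

namespace Cfsg.Agent.Helper9.AltGen

open Cfsg.Agent.Helper9.T11

set_option maxRecDepth 100000 in
theorem tw_4_5_6 : enumC 13 (searchF 13 ps13) 6 6636304 127 6 = true := by
  decide +kernel

set_option maxRecDepth 100000 in
theorem tw_4_5_7 : enumC 13 (searchF 13 ps13) 6 7684880 191 7 = true := by
  decide +kernel

set_option maxRecDepth 100000 in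
theorem tw_4_5_8 : enumC 13 (searchF 13 ps13) 6 8733456 319 8 = true := by
  decide +kernel

set_option maxRecDepth 100000 in
theorem tw_4_5_9 : enumC 13 (searchF 13 ps13) 6 9782032 575 9 = true := by
  decide +kernel

set_option maxRecDepth 100000 in
theorem tw_4_5_10 : enumC 13 (searchF 13 ps13) 6 10830608 1087 10 = true := by
  decide +kernel

set_option maxRecDepth 100000 in
theorem tw_4_5_11 : enumC 13 (searchF 13 ps13) 6 11879184 2111 11 = true := by
  decide +kernel

set_option maxRecDepth 100000 in
theorem tw_4_5_12 : enumC 13 (searchF 13 ps13) 6 12927760 4159 12 = true := by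
  decide +kernel

set_option maxRecDepth 100000 in
theorem tw_4_6_5 : enumC 13 (searchF 13 ps13) 6 84296464 127 5 = true := by
  decide +kernel

set_option maxRecDepth 100000 in
theorem tw_4_6_7 : enumC 13 (searchF 13 ps13) 6 117850896 223 7 = true := by
  decide +kernel

set_option maxRecDepth 100000 in
theorem tw_4_6_8 : enumC 13 (searchF 13 ps13) 6 134628112 351 8 = true := by
  decide +kernel

set_option maxRecDepth 100000 in
theorem tw_4_6_9 : enumC 13 (searchF 13 ps13) 6 151405328 607 9 = true := by
  decide +kernel

set_option maxRecDepth 100000 in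
theorem tw_4_6_10 : enumC 13 (searchF 13 ps13) 6 168182544 1119 10 = true := by
  decide +kernel

set_option maxRecDepth 100000 in
theorem tw_4_6_11 : enumC 13 (searchF 13 ps13) 6 184959760 2143 11 = true := by
  decide +kernel

set_option maxRecDepth 100000 in
theorem tw_4_6_12 : enumC 13 (searchF 13 ps13) 6 201736976 4191 12 = true := by
  decide +kernel

set_option maxRecDepth 100000 in
theorem tw_4_7_5 : enumC 13 (searchF 13 ps13) 6 1342653200 191 5 = true := by
  decide +kernel

set_option maxRecDepth 100000 in
theorem tw_4_7_6 : enumC 13 (searchF 13 ps13) 6 1611088656 223 6 = true := by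
  decide +kernel

set_option maxRecDepth 100000 in
theorem tw_4_7_8 : enumC 13 (searchF 13 ps13) 6 2147959568 415 8 = true := by
  decide +kernel

set_option maxRecDepth 100000 in
theorem tw_4_7_9 : enumC 13 (searchF 13 ps13) 6 2416395024 671 9 = true := by
  decide +kernel

set_option maxRecDepth 100000 in
theorem tw_4_7_10 : enumC 13 (searchF 13 ps13) 6 2684830480 1183 10 = true := by
  decide +kernel

set_option maxRecDepth 100000 in
theorem tw_4_7_11 : enumC 13 (searchF 13 ps13) 6 2953265936 2207 11 = true := by
  decide +kernel

set_option maxRecDepth 100000 in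
theorem tw_4_7_12 : enumC 13 (searchF 13 ps13) 6 3221701392 4255 12 = true := by
  decide +kernel

end Cfsg.Agent.Helper9.AltGen
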