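import Mathlib
import Cfsg.Agent.Helper9.AltGen.Tw.Base

set_option autoImplicit false
set_option Elab.async false

/-!
A part of the enumeration on 13 points: the search holds at every cycle of the part.
-/

namespace Cfsg.Agent.Helper9.AltGen

open Cfsg.Agent.Helper9.T11

set_option maxRecDepth 100000 in
theorem tw_4_8_5 : enumC 13 (searchF 13 ps13) 6 21475377936 319 5 = true := by
  decide +kernel

set_option maxRecDepth 100000 in
theorem tw_4_8_6 : enumC 13 (searchF 13 ps13) 6 25770345232 351 6 = true := by
  decide +kernel

set_option maxRecDepth 100000 in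
theorem tw_4_8_7 : enumC 13 (searchF 13 ps13) 6 30065312528 415 7 = true := by
  decide +kernel

set_option maxRecDepth 100000 in
theorem tw_4_8_9 : enumC 13 (searchF 13 ps13) 6 38655247120 799 9 = true := by
  decide +kernel

set_option maxRecDepth 100000 in
theorem tw_4_8_10 : enumC 13 (searchF 13 ps13) 6 42950214416 1311 10 = true := by
  decide +kernel

set_option maxRecDepth 100000 in
theorem tw_4_8_11 : enumC 13 (searchF 13 ps13) 6 47245181712 2335 11 = true := by
  decide +kernel

set_option maxRecDepth 100000 in
theorem tw_4_8_12 : enumC 13 (searchF 13 ps13) 6 51540149008 4383 12 = true := by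
  decide +kernel

set_option maxRecDepth 100000 in
theorem tw_4_9_5 : enumC 13 (searchF 13 ps13) 6 343597990672 575 5 = true := by
  decide +kernel

set_option maxRecDepth 100000 in
theorem tw_4_9_6 : enumC 13 (searchF 13 ps13) 6 412317467408 607 6 = true := by
  decide +kernel

set_option maxRecDepth 100000 in
theorem tw_4_9_7 : enumC 13 (searchF 13 ps13) 6 481036944144 671 7 = true := by
  decide +kernel

set_option maxRecDepth 100000 in
theorem tw_4_9_8 : enumC 13 (searchF 13 ps13) 6 549756420880 799 8 = true := by
  decide +kernel

set_option maxRecDepth 100000 in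
theorem tw_4_9_10 : enumC 13 (searchF 13 ps13) 6 687195374352 1567 10 = true := by
  decide +kernel

set_option maxRecDepth 100000 in
theorem tw_4_9_11 : enumC 13 (searchF 13 ps13) 6 755914851088 2591 11 = true := by
  decide +kernel

set_option maxRecDepth 100000 in
theorem tw_4_9_12 : enumC 13 (searchF 13 ps13) 6 824634327824 4639 12 = true := by
  decide +kernel

set_option maxRecDepth 100000 in
theorem tw_4_10_5 : enumC 13 (searchF 13 ps13) 6 5497558811408 1087 5 = true := by
  decide +kernel

set_option maxRecDepth 100000 in
theorem tw_4_10_6 : enumC 13 (searchF 13 ps13) 6 6597070439184 1119 6 = true := by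
  decide +kernel

set_option maxRecDepth 100000 in
theorem tw_4_10_7 : enumC 13 (searchF 13 ps13) 6 7696582066960 1183 7 = true := by
  decide +kernel

set_option maxRecDepth 100000 in
theorem tw_4_10_8 : enumC 13 (searchF 13 ps13) 6 8796093694736 1311 8 = true := by
  decide +kernel

set_option maxRecDepth 100000 in
theorem tw_4_10_9 : enumC 13 (searchF 13 ps13) 6 9895605322512 1567 9 = true := by
  decide +kernel

set_option maxRecDepth 100000 in
theorem tw_4_10_11 : enumC 13 (searchF 13 ps13) 6 12094628578064 3103 11 = true := by
  decide +kernel

set_option maxRecDepth 100000 in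
theorem tw_4_10_12 : enumC 13 (searchF 13 ps13) 6 13194140205840 5151 12 = true := by
  decide +kernel

end Cfsg.Agent.Helper9.AltGen
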