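import Mathlib
import Cfsg.Agent.Helper9.AltGen.Tw.Base

set_option autoImplicit false
set_option Elab.async false

/-!
A part of the enumeration on 13 points: the search holds at every cycle of the part.
-/

namespace Cfsg.Agent.Helper9.AltGen

open Cfsg.Agent.Helper9.T11

set_option maxRecDepth 100000 in
theorem tw_7_11_4 : enumC 13 (searchF 13 ps13) 6 70371696997136 2207 4 = true := by
  decide +kernel

set_option maxRecDepth 100000 in
theorem tw_7_11_5 : enumC 13 (searchF 13 ps13) 6 87963883041552 2223 5 = true := by
  decide +kernel

set_option maxRecDepth 100000 in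
theorem tw_7_11_6 : enumC 13 (searchF 13 ps13) 6 105556069085968 2255 6 = true := by
  decide +kernel

set_option maxRecDepth 100000 in
theorem tw_7_11_8 : enumC 13 (searchF 13 ps13) 6 140740441174800 2447 8 = true := by
  decide +kernel

set_option maxRecDepth 100000 in
theorem tw_7_11_9 : enumC 13 (searchF 13 ps13) 6 158332627219216 2703 9 = true := by
  decide +kernel

set_option maxRecDepth 100000 in
theorem tw_7_11_10 : enumC 13 (searchF 13 ps13) 6 175924813263632 3215 10 = true := by
  decide +kernel

set_option maxRecDepth 100000 in
theorem tw_7_11_12 : enumC 13 (searchF 13 ps13) 6 211109185352464 6287 12 = true := by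
  decide +kernel

set_option maxRecDepth 100000 in
theorem tw_7_12_4 : enumC 13 (searchF 13 ps13) 6 1125903128097552 4255 4 = true := by
  decide +kernel

set_option maxRecDepth 100000 in
theorem tw_7_12_5 : enumC 13 (searchF 13 ps13) 6 1407378104808208 4271 5 = true := by
  decide +kernel

set_option maxRecDepth 100000 in
theorem tw_7_12_6 : enumC 13 (searchF 13 ps13) 6 1688853081518864 4303 6 = true := by
  decide +kernel

set_option maxRecDepth 100000 in
theorem tw_7_12_8 : enumC 13 (searchF 13 ps13) 6 2251803034940176 4495 8 = true := by
  decide +kernel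

set_option maxRecDepth 100000 in
theorem tw_7_12_9 : enumC 13 (searchF 13 ps13) 6 2533278011650832 4751 9 = true := by
  decide +kernel

set_option maxRecDepth 100000 in
theorem tw_7_12_10 : enumC 13 (searchF 13 ps13) 6 2814752988361488 5263 10 = true := by
  decide +kernel

set_option maxRecDepth 100000 in
theorem tw_7_12_11 : enumC 13 (searchF 13 ps13) 6 3096227965072144 6287 11 = true := by
  decide +kernel

set_option maxRecDepth 100000 in
theorem tw_8_4_5 : enumC 13 (searchF 13 ps13) 6 17180230416 319 5 = true := by
  decide +kernel

set_option maxRecDepth 100000 in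
theorem tw_8_4_6 : enumC 13 (searchF 13 ps13) 6 17180295952 351 6 = true := by
  decide +kernel

set_option maxRecDepth 100000 in
theorem tw_8_4_7 : enumC 13 (searchF 13 ps13) 6 17180361488 415 7 = true := by
  decide +kernel

set_option maxRecDepth 100000 in
theorem tw_8_4_9 : enumC 13 (searchF 13 ps13) 6 17180492560 799 9 = true := by
  decide +kernel

set_option maxRecDepth 100000 in
theorem tw_8_4_10 : enumC 13 (searchF 13 ps13) 6 17180558096 1311 10 = true := by
  decide +kernel

set_option maxRecDepth 100000 in
theorem tw_8_4_11 : enumC 13 (searchF 13 ps13) 6 17180623632 2335 11 = true := by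
  decide +kernel

set_option maxRecDepth 100000 in
theorem tw_8_4_12 : enumC 13 (searchF 13 ps13) 6 17180689168 4383 12 = true := by
  decide +kernel

end Cfsg.Agent.Helper9.AltGen
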