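import Mathlib
import Cfsg.Agent.Helper9.AltGen.Tw.Base

set_option autoImplicit false
set_option Elab.async false

/-!
A part of the enumeration on 13 points: the search holds at every cycle of the part.
-/

namespace Cfsg.Agent.Helper9.AltGen

open Cfsg.Agent.Helper9.T11

set_option maxRecDepth 100000 in
theorem tw_8_5_4 : enumC 13 (searchF 13 ps13) 6 21479064336 319 4 = true := by
  decide +kernel

set_option maxRecDepth 100000 in
theorem tw_8_5_6 : enumC 13 (searchF 13 ps13) 6 21481161488 367 6 = true := by
  decide +kernel

set_option maxRecDepth 100000 in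
theorem tw_8_5_7 : enumC 13 (searchF 13 ps13) 6 21482210064 431 7 = true := by
  decide +kernel

set_option maxRecDepth 100000 in
theorem tw_8_5_9 : enumC 13 (searchF 13 ps13) 6 21484307216 815 9 = true := by
  decide +kernel

set_option maxRecDepth 100000 in
theorem tw_8_5_10 : enumC 13 (searchF 13 ps13) 6 21485355792 1327 10 = true := by
  decide +kernel

set_option maxRecDepth 100000 in
theorem tw_8_5_11 : enumC 13 (searchF 13 ps13) 6 21486404368 2351 11 = true := by
  decide +kernel

set_option maxRecDepth 100000 in
theorem tw_8_5_12 : enumC 13 (searchF 13 ps13) 6 21487452944 4399 12 = true := by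
  decide +kernel

set_option maxRecDepth 100000 in
theorem tw_8_6_4 : enumC 13 (searchF 13 ps13) 6 25836946192 351 4 = true := by
  decide +kernel

set_option maxRecDepth 100000 in
theorem tw_8_6_5 : enumC 13 (searchF 13 ps13) 6 25853723408 367 5 = true := by
  decide +kernel

set_option maxRecDepth 100000 in
theorem tw_8_6_7 : enumC 13 (searchF 13 ps13) 6 25887277840 463 7 = true := by
  decide +kernel

set_option maxRecDepth 100000 in
theorem tw_8_6_9 : enumC 13 (searchF 13 ps13) 6 25920832272 847 9 = true := by
  decide +kernel

set_option maxRecDepth 100000 in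
theorem tw_8_6_10 : enumC 13 (searchF 13 ps13) 6 25937609488 1359 10 = true := by
  decide +kernel

set_option maxRecDepth 100000 in
theorem tw_8_6_11 : enumC 13 (searchF 13 ps13) 6 25954386704 2383 11 = true := by
  decide +kernel

set_option maxRecDepth 100000 in
theorem tw_8_6_12 : enumC 13 (searchF 13 ps13) 6 25971163920 4431 12 = true := by
  decide +kernel

set_option maxRecDepth 100000 in
theorem tw_8_7_4 : enumC 13 (searchF 13 ps13) 6 31138546448 415 4 = true := by
  decide +kernel

set_option maxRecDepth 100000 in
theorem tw_8_7_5 : enumC 13 (searchF 13 ps13) 6 31406981904 431 5 = true := by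
  decide +kernel

set_option maxRecDepth 100000 in
theorem tw_8_7_6 : enumC 13 (searchF 13 ps13) 6 31675417360 463 6 = true := by
  decide +kernel

set_option maxRecDepth 100000 in
theorem tw_8_7_9 : enumC 13 (searchF 13 ps13) 6 32480723728 911 9 = true := by
  decide +kernel

set_option maxRecDepth 100000 in
theorem tw_8_7_10 : enumC 13 (searchF 13 ps13) 6 32749159184 1423 10 = true := by
  decide +kernel

set_option maxRecDepth 100000 in
theorem tw_8_7_11 : enumC 13 (searchF 13 ps13) 6 33017594640 2447 11 = true := by
  decide +kernel

set_option maxRecDepth 100000 in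
theorem tw_8_7_12 : enumC 13 (searchF 13 ps13) 6 33286030096 4495 12 = true := by
  decide +kernel

end Cfsg.Agent.Helper9.AltGen
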