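import Mathlib
import Cfsg.Agent.Helper9.AltGen.Tw.Base

set_option autoImplicit false
set_option Elab.async false

/-!
A part of the enumeration on 13 points: the search holds at every cycle of the part.
-/

namespace Cfsg.Agent.Helper9.AltGen

open Cfsg.Agent.Helper9.T11

set_option maxRecDepth 100000 in
theorem tw_8_12_4 : enumC 13 (searchF 13 ps13) 6 1125951446483728 4383 4 = true := by
  decide +kernel

set_option maxRecDepth 100000 in
theorem tw_8_12_5 : enumC 13 (searchF 13 ps13) 6 1407426423194384 4399 5 = true := by
  decide +kernel

set_option maxRecDepth 100000 in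
theorem tw_8_12_6 : enumC 13 (searchF 13 ps13) 6 1688901399905040 4431 6 = true := by
  decide +kernel

set_option maxRecDepth 100000 in
theorem tw_8_12_7 : enumC 13 (searchF 13 ps13) 6 1970376376615696 4495 7 = true := by
  decide +kernel

set_option maxRecDepth 100000 in
theorem tw_8_12_9 : enumC 13 (searchF 13 ps13) 6 2533326330037008 4879 9 = true := by
  decide +kernel

set_option maxRecDepth 100000 in
theorem tw_8_12_10 : enumC 13 (searchF 13 ps13) 6 2814801306747664 5391 10 = true := by
  decide +kernel

set_option maxRecDepth 100000 in
theorem tw_8_12_11 : enumC 13 (searchF 13 ps13) 6 3096276283458320 6415 11 = true := by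
  decide +kernel

set_option maxRecDepth 100000 in
theorem tw_9_4_5 : enumC 13 (searchF 13 ps13) 6 274878272272 575 5 = true := by
  decide +kernel

set_option maxRecDepth 100000 in
theorem tw_9_4_6 : enumC 13 (searchF 13 ps13) 6 274878337808 607 6 = true := by
  decide +kernel

set_option maxRecDepth 100000 in
theorem tw_9_4_7 : enumC 13 (searchF 13 ps13) 6 274878403344 671 7 = true := by
  decide +kernel

set_option maxRecDepth 100000 in
theorem tw_9_4_8 : enumC 13 (searchF 13 ps13) 6 274878468880 799 8 = true := by
  decide +kernel

set_option maxRecDepth 100000 in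
theorem tw_9_4_10 : enumC 13 (searchF 13 ps13) 6 274878599952 1567 10 = true := by
  decide +kernel

set_option maxRecDepth 100000 in
theorem tw_9_4_11 : enumC 13 (searchF 13 ps13) 6 274878665488 2591 11 = true := by
  decide +kernel

set_option maxRecDepth 100000 in
theorem tw_9_4_12 : enumC 13 (searchF 13 ps13) 6 274878731024 4639 12 = true := by
  decide +kernel

set_option maxRecDepth 100000 in
theorem tw_9_5_4 : enumC 13 (searchF 13 ps13) 6 343601615632 575 4 = true := by
  decide +kernel

set_option maxRecDepth 100000 in
theorem tw_9_5_6 : enumC 13 (searchF 13 ps13) 6 343603712784 623 6 = true := by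
  decide +kernel

set_option maxRecDepth 100000 in
theorem tw_9_5_7 : enumC 13 (searchF 13 ps13) 6 343604761360 687 7 = true := by
  decide +kernel

set_option maxRecDepth 100000 in
theorem tw_9_5_8 : enumC 13 (searchF 13 ps13) 6 343605809936 815 8 = true := by
  decide +kernel

set_option maxRecDepth 100000 in
theorem tw_9_5_10 : enumC 13 (searchF 13 ps13) 6 343607907088 1583 10 = true := by
  decide +kernel

set_option maxRecDepth 100000 in
theorem tw_9_5_11 : enumC 13 (searchF 13 ps13) 6 343608955664 2607 11 = true := by
  decide +kernel

set_option maxRecDepth 100000 in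
theorem tw_9_5_12 : enumC 13 (searchF 13 ps13) 6 343610004240 4655 12 = true := by
  decide +kernel

end Cfsg.Agent.Helper9.AltGen
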