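import Mathlib
import Cfsg.Agent.Helper9.AltGen.Tw.Base

set_option autoImplicit false
set_option Elab.async false

/-!
A part of the enumeration on 13 points: the search holds at every cycle of the part.
-/

namespace Cfsg.Agent.Helper9.AltGen

open Cfsg.Agent.Helper9.T11

set_option maxRecDepth 100000 in
theorem tw_9_6_4 : enumC 13 (searchF 13 ps13) 6 412384006928 607 4 = true := by
  decide +kernel

set_option maxRecDepth 100000 in
theorem tw_9_6_5 : enumC 13 (searchF 13 ps13) 6 412400784144 623 5 = true := by
  decide +kernel

set_option maxRecDepth 100000 in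
theorem tw_9_6_7 : enumC 13 (searchF 13 ps13) 6 412434338576 719 7 = true := by
  decide +kernel

set_option maxRecDepth 100000 in
theorem tw_9_6_8 : enumC 13 (searchF 13 ps13) 6 412451115792 847 8 = true := by
  decide +kernel

set_option maxRecDepth 100000 in
theorem tw_9_6_10 : enumC 13 (searchF 13 ps13) 6 412484670224 1615 10 = true := by
  decide +kernel

set_option maxRecDepth 100000 in
theorem tw_9_6_11 : enumC 13 (searchF 13 ps13) 6 412501447440 2639 11 = true := by
  decide +kernel

set_option maxRecDepth 100000 in
theorem tw_9_6_12 : enumC 13 (searchF 13 ps13) 6 412518224656 4687 12 = true := by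
  decide +kernel

set_option maxRecDepth 100000 in
theorem tw_9_7_4 : enumC 13 (searchF 13 ps13) 6 482110116624 671 4 = true := by
  decide +kernel

set_option maxRecDepth 100000 in
theorem tw_9_7_5 : enumC 13 (searchF 13 ps13) 6 482378552080 687 5 = true := by
  decide +kernel

set_option maxRecDepth 100000 in
theorem tw_9_7_6 : enumC 13 (searchF 13 ps13) 6 482646987536 719 6 = true := by
  decide +kernel

set_option maxRecDepth 100000 in
theorem tw_9_7_8 : enumC 13 (searchF 13 ps13) 6 483183858448 911 8 = true := by
  decide +kernel

set_option maxRecDepth 100000 in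
theorem tw_9_7_10 : enumC 13 (searchF 13 ps13) 6 483720729360 1679 10 = true := by
  decide +kernel

set_option maxRecDepth 100000 in
theorem tw_9_7_11 : enumC 13 (searchF 13 ps13) 6 483989164816 2703 11 = true := by
  decide +kernel

set_option maxRecDepth 100000 in
theorem tw_9_7_12 : enumC 13 (searchF 13 ps13) 6 484257600272 4751 12 = true := by
  decide +kernel

set_option maxRecDepth 100000 in
theorem tw_9_8_4 : enumC 13 (searchF 13 ps13) 6 566935720720 799 4 = true := by
  decide +kernel

set_option maxRecDepth 100000 in
theorem tw_9_8_5 : enumC 13 (searchF 13 ps13) 6 571230688016 815 5 = true := by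
  decide +kernel

set_option maxRecDepth 100000 in
theorem tw_9_8_6 : enumC 13 (searchF 13 ps13) 6 575525655312 847 6 = true := by
  decide +kernel

set_option maxRecDepth 100000 in
theorem tw_9_8_7 : enumC 13 (searchF 13 ps13) 6 579820622608 911 7 = true := by
  decide +kernel

set_option maxRecDepth 100000 in
theorem tw_9_8_10 : enumC 13 (searchF 13 ps13) 6 592705524496 1807 10 = true := by
  decide +kernel

set_option maxRecDepth 100000 in
theorem tw_9_8_11 : enumC 13 (searchF 13 ps13) 6 597000491792 2831 11 = true := by
  decide +kernel

set_option maxRecDepth 100000 in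
theorem tw_9_8_12 : enumC 13 (searchF 13 ps13) 6 601295459088 4879 12 = true := by
  decide +kernel

end Cfsg.Agent.Helper9.AltGen
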