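import Mathlib
import Cfsg.Agent.Helper9.AltGen.Tw.Base

set_option autoImplicit false
set_option Elab.async false

/-!
A part of the enumeration on 13 points: the search holds at every cycle of the part.
-/

namespace Cfsg.Agent.Helper9.AltGen

open Cfsg.Agent.Helper9.T11

set_option maxRecDepth 100000 in
theorem tw_9_10_4 : enumC 13 (searchF 13 ps13) 6 5085241316112 1567 4 = true := by
  decide +kernel

set_option maxRecDepth 100000 in
theorem tw_9_10_5 : enumC 13 (searchF 13 ps13) 6 6184752943888 1583 5 = true := by
  decide +kernel

set_option maxRecDepth 100000 in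
theorem tw_9_10_6 : enumC 13 (searchF 13 ps13) 6 7284264571664 1615 6 = true := by
  decide +kernel

set_option maxRecDepth 100000 in
theorem tw_9_10_7 : enumC 13 (searchF 13 ps13) 6 8383776199440 1679 7 = true := by
  decide +kernel

set_option maxRecDepth 100000 in
theorem tw_9_10_8 : enumC 13 (searchF 13 ps13) 6 9483287827216 1807 8 = true := by
  decide +kernel

set_option maxRecDepth 100000 in
theorem tw_9_10_11 : enumC 13 (searchF 13 ps13) 6 12781822710544 3599 11 = true := by
  decide +kernel

set_option maxRecDepth 100000 in
theorem tw_9_10_12 : enumC 13 (searchF 13 ps13) 6 13881334338320 5647 12 = true := by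
  decide +kernel

set_option maxRecDepth 100000 in
theorem tw_9_11_4 : enumC 13 (searchF 13 ps13) 6 71124658459408 2591 4 = true := by
  decide +kernel

set_option maxRecDepth 100000 in
theorem tw_9_11_5 : enumC 13 (searchF 13 ps13) 6 88716844503824 2607 5 = true := by
  decide +kernel

set_option maxRecDepth 100000 in
theorem tw_9_11_6 : enumC 13 (searchF 13 ps13) 6 106309030548240 2639 6 = true := by
  decide +kernel

set_option maxRecDepth 100000 in
theorem tw_9_11_7 : enumC 13 (searchF 13 ps13) 6 123901216592656 2703 7 = true := by
  decide +kernel

set_option maxRecDepth 100000 in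
theorem tw_9_11_8 : enumC 13 (searchF 13 ps13) 6 141493402637072 2831 8 = true := by
  decide +kernel

set_option maxRecDepth 100000 in
theorem tw_9_11_10 : enumC 13 (searchF 13 ps13) 6 176677774725904 3599 10 = true := by
  decide +kernel

set_option maxRecDepth 100000 in
theorem tw_9_11_12 : enumC 13 (searchF 13 ps13) 6 211862146814736 6671 12 = true := by
  decide +kernel

set_option maxRecDepth 100000 in
theorem tw_9_12_4 : enumC 13 (searchF 13 ps13) 6 1126724540601104 4639 4 = true := by
  decide +kernel

set_option maxRecDepth 100000 in
theorem tw_9_12_5 : enumC 13 (searchF 13 ps13) 6 1408199517311760 4655 5 = true := by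
  decide +kernel

set_option maxRecDepth 100000 in
theorem tw_9_12_6 : enumC 13 (searchF 13 ps13) 6 1689674494022416 4687 6 = true := by
  decide +kernel

set_option maxRecDepth 100000 in
theorem tw_9_12_7 : enumC 13 (searchF 13 ps13) 6 1971149470733072 4751 7 = true := by
  decide +kernel

set_option maxRecDepth 100000 in
theorem tw_9_12_8 : enumC 13 (searchF 13 ps13) 6 2252624447443728 4879 8 = true := by
  decide +kernel

set_option maxRecDepth 100000 in
theorem tw_9_12_10 : enumC 13 (searchF 13 ps13) 6 2815574400865040 5647 10 = true := by
  decide +kernel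

set_option maxRecDepth 100000 in
theorem tw_9_12_11 : enumC 13 (searchF 13 ps13) 6 3097049377575696 6671 11 = true := by
  decide +kernel

end Cfsg.Agent.Helper9.AltGen
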