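import Mathlib
import Cfsg.Agent.Helper9.AltGen.Tw.Base

set_option autoImplicit false
set_option Elab.async false

/-!
A part of the enumeration on 13 points: the search holds at every cycle of the part.
-/

namespace Cfsg.Agent.Helper9.AltGen

open Cfsg.Agent.Helper9.T11

set_option maxRecDepth 100000 in
theorem tw_10_4_5 : enumC 13 (searchF 13 ps13) 6 4398046880528 1087 5 = true := by
  decide +kernel

set_option maxRecDepth 100000 in
theorem tw_10_4_6 : enumC 13 (searchF 13 ps13) 6 4398046946064 1119 6 = true := by
  decide +kernel

set_option maxRecDepth 100000 in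
theorem tw_10_4_7 : enumC 13 (searchF 13 ps13) 6 4398047011600 1183 7 = true := by
  decide +kernel

set_option maxRecDepth 100000 in
theorem tw_10_4_8 : enumC 13 (searchF 13 ps13) 6 4398047077136 1311 8 = true := by
  decide +kernel

set_option maxRecDepth 100000 in
theorem tw_10_4_9 : enumC 13 (searchF 13 ps13) 6 4398047142672 1567 9 = true := by
  decide +kernel

set_option maxRecDepth 100000 in
theorem tw_10_4_11 : enumC 13 (searchF 13 ps13) 6 4398047273744 3103 11 = true := by
  decide +kernel

set_option maxRecDepth 100000 in
theorem tw_10_4_12 : enumC 13 (searchF 13 ps13) 6 4398047339280 5151 12 = true := by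
  decide +kernel

set_option maxRecDepth 100000 in
theorem tw_10_5_4 : enumC 13 (searchF 13 ps13) 6 5497562374928 1087 4 = true := by
  decide +kernel

set_option maxRecDepth 100000 in
theorem tw_10_5_6 : enumC 13 (searchF 13 ps13) 6 5497564472080 1135 6 = true := by
  decide +kernel

set_option maxRecDepth 100000 in
theorem tw_10_5_7 : enumC 13 (searchF 13 ps13) 6 5497565520656 1199 7 = true := by
  decide +kernel

set_option maxRecDepth 100000 in
theorem tw_10_5_8 : enumC 13 (searchF 13 ps13) 6 5497566569232 1327 8 = true := by
  decide +kernel

set_option maxRecDepth 100000 in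
theorem tw_10_5_9 : enumC 13 (searchF 13 ps13) 6 5497567617808 1583 9 = true := by
  decide +kernel

set_option maxRecDepth 100000 in
theorem tw_10_5_11 : enumC 13 (searchF 13 ps13) 6 5497569714960 3119 11 = true := by
  decide +kernel

set_option maxRecDepth 100000 in
theorem tw_10_5_12 : enumC 13 (searchF 13 ps13) 6 5497570763536 5167 12 = true := by
  decide +kernel

set_option maxRecDepth 100000 in
theorem tw_10_6_4 : enumC 13 (searchF 13 ps13) 6 6597136917264 1119 4 = true := by
  decide +kernel

set_option maxRecDepth 100000 in
theorem tw_10_6_5 : enumC 13 (searchF 13 ps13) 6 6597153694480 1135 5 = true := by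
  decide +kernel

set_option maxRecDepth 100000 in
theorem tw_10_6_7 : enumC 13 (searchF 13 ps13) 6 6597187248912 1231 7 = true := by
  decide +kernel

set_option maxRecDepth 100000 in
theorem tw_10_6_8 : enumC 13 (searchF 13 ps13) 6 6597204026128 1359 8 = true := by
  decide +kernel

set_option maxRecDepth 100000 in
theorem tw_10_6_9 : enumC 13 (searchF 13 ps13) 6 6597220803344 1615 9 = true := by
  decide +kernel

set_option maxRecDepth 100000 in
theorem tw_10_6_11 : enumC 13 (searchF 13 ps13) 6 6597254357776 3151 11 = true := by
  decide +kernel

set_option maxRecDepth 100000 in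
theorem tw_10_6_12 : enumC 13 (searchF 13 ps13) 6 6597271134992 5199 12 = true := by
  decide +kernel

end Cfsg.Agent.Helper9.AltGen
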