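import Mathlib
import Cfsg.Agent.Helper9.AltGen.Tw.Base

set_option autoImplicit false
set_option Elab.async false

/-!
A part of the enumeration on 13 points: the search holds at every cycle of the part.
-/

namespace Cfsg.Agent.Helper9.AltGen

open Cfsg.Agent.Helper9.T11

set_option maxRecDepth 100000 in
theorem tw_10_7_4 : enumC 13 (searchF 13 ps13) 6 7697655178000 1183 4 = true := by
  decide +kernel

set_option maxRecDepth 100000 in
theorem tw_10_7_5 : enumC 13 (searchF 13 ps13) 6 7697923613456 1199 5 = true := by
  decide +kernel

set_option maxRecDepth 100000 in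
theorem tw_10_7_6 : enumC 13 (searchF 13 ps13) 6 7698192048912 1231 6 = true := by
  decide +kernel

set_option maxRecDepth 100000 in
theorem tw_10_7_8 : enumC 13 (searchF 13 ps13) 6 7698728919824 1423 8 = true := by
  decide +kernel

set_option maxRecDepth 100000 in
theorem tw_10_7_9 : enumC 13 (searchF 13 ps13) 6 7698997355280 1679 9 = true := by
  decide +kernel

set_option maxRecDepth 100000 in
theorem tw_10_7_11 : enumC 13 (searchF 13 ps13) 6 7699534226192 3215 11 = true := by
  decide +kernel

set_option maxRecDepth 100000 in
theorem tw_10_7_12 : enumC 13 (searchF 13 ps13) 6 7699802661648 5263 12 = true := by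
  decide +kernel

set_option maxRecDepth 100000 in
theorem tw_10_8_4 : enumC 13 (searchF 13 ps13) 6 8813272933136 1311 4 = true := by
  decide +kernel

set_option maxRecDepth 100000 in
theorem tw_10_8_5 : enumC 13 (searchF 13 ps13) 6 8817567900432 1327 5 = true := by
  decide +kernel

set_option maxRecDepth 100000 in
theorem tw_10_8_6 : enumC 13 (searchF 13 ps13) 6 8821862867728 1359 6 = true := by
  decide +kernel

set_option maxRecDepth 100000 in
theorem tw_10_8_7 : enumC 13 (searchF 13 ps13) 6 8826157835024 1423 7 = true := by
  decide +kernel

set_option maxRecDepth 100000 in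
theorem tw_10_8_9 : enumC 13 (searchF 13 ps13) 6 8834747769616 1807 9 = true := by
  decide +kernel

set_option maxRecDepth 100000 in
theorem tw_10_8_11 : enumC 13 (searchF 13 ps13) 6 8843337704208 3343 11 = true := by
  decide +kernel

set_option maxRecDepth 100000 in
theorem tw_10_8_12 : enumC 13 (searchF 13 ps13) 6 8847632671504 5391 12 = true := by
  decide +kernel

set_option maxRecDepth 100000 in
theorem tw_10_9_4 : enumC 13 (searchF 13 ps13) 6 10170482598672 1567 4 = true := by
  decide +kernel

set_option maxRecDepth 100000 in
theorem tw_10_9_5 : enumC 13 (searchF 13 ps13) 6 10239202075408 1583 5 = true := by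
  decide +kernel

set_option maxRecDepth 100000 in
theorem tw_10_9_6 : enumC 13 (searchF 13 ps13) 6 10307921552144 1615 6 = true := by
  decide +kernel

set_option maxRecDepth 100000 in
theorem tw_10_9_7 : enumC 13 (searchF 13 ps13) 6 10376641028880 1679 7 = true := by
  decide +kernel

set_option maxRecDepth 100000 in
theorem tw_10_9_8 : enumC 13 (searchF 13 ps13) 6 10445360505616 1807 8 = true := by
  decide +kernel

set_option maxRecDepth 100000 in
theorem tw_10_9_11 : enumC 13 (searchF 13 ps13) 6 10651518935824 3599 11 = true := by
  decide +kernel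

set_option maxRecDepth 100000 in
theorem tw_10_9_12 : enumC 13 (searchF 13 ps13) 6 10720238412560 5647 12 = true := by
  decide +kernel

end Cfsg.Agent.Helper9.AltGen
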