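import Mathlib
import Cfsg.Agent.Helper9.AltGen.Tw.Base

set_option autoImplicit false
set_option Elab.async false

/-!
A part of the enumeration on 13 points: the search holds at every cycle of the part.
-/

namespace Cfsg.Agent.Helper9.AltGen

open Cfsg.Agent.Helper9.T11

set_option maxRecDepth 100000 in
theorem tw_10_11_4 : enumC 13 (searchF 13 ps13) 6 82463372124944 3103 4 = true := by
  decide +kernel

set_option maxRecDepth 100000 in
theorem tw_10_11_5 : enumC 13 (searchF 13 ps13) 6 100055558169360 3119 5 = true := by
  decide +kernel

set_option maxRecDepth 100000 in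
theorem tw_10_11_6 : enumC 13 (searchF 13 ps13) 6 117647744213776 3151 6 = true := by
  decide +kernel

set_option maxRecDepth 100000 in
theorem tw_10_11_7 : enumC 13 (searchF 13 ps13) 6 135239930258192 3215 7 = true := by
  decide +kernel

set_option maxRecDepth 100000 in
theorem tw_10_11_8 : enumC 13 (searchF 13 ps13) 6 152832116302608 3343 8 = true := by
  decide +kernel

set_option maxRecDepth 100000 in
theorem tw_10_11_9 : enumC 13 (searchF 13 ps13) 6 170424302347024 3599 9 = true := by
  decide +kernel

set_option maxRecDepth 100000 in
theorem tw_10_11_12 : enumC 13 (searchF 13 ps13) 6 223200860480272 7183 12 = true := by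
  decide +kernel

set_option maxRecDepth 100000 in
theorem tw_10_12_4 : enumC 13 (searchF 13 ps13) 6 1139094046417680 5151 4 = true := by
  decide +kernel

set_option maxRecDepth 100000 in
theorem tw_10_12_5 : enumC 13 (searchF 13 ps13) 6 1420569023128336 5167 5 = true := by
  decide +kernel

set_option maxRecDepth 100000 in
theorem tw_10_12_6 : enumC 13 (searchF 13 ps13) 6 1702043999838992 5199 6 = true := by
  decide +kernel

set_option maxRecDepth 100000 in
theorem tw_10_12_7 : enumC 13 (searchF 13 ps13) 6 1983518976549648 5263 7 = true := by
  decide +kernel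

set_option maxRecDepth 100000 in
theorem tw_10_12_8 : enumC 13 (searchF 13 ps13) 6 2264993953260304 5391 8 = true := by
  decide +kernel

set_option maxRecDepth 100000 in
theorem tw_10_12_9 : enumC 13 (searchF 13 ps13) 6 2546468929970960 5647 9 = true := by
  decide +kernel

set_option maxRecDepth 100000 in
theorem tw_10_12_11 : enumC 13 (searchF 13 ps13) 6 3109418883392272 7183 11 = true := by
  decide +kernel

set_option maxRecDepth 100000 in
theorem tw_11_4_5 : enumC 13 (searchF 13 ps13) 6 70368744551184 2111 5 = true := by
  decide +kernel

set_option maxRecDepth 100000 in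
theorem tw_11_4_6 : enumC 13 (searchF 13 ps13) 6 70368744616720 2143 6 = true := by
  decide +kernel

set_option maxRecDepth 100000 in
theorem tw_11_4_7 : enumC 13 (searchF 13 ps13) 6 70368744682256 2207 7 = true := by
  decide +kernel

set_option maxRecDepth 100000 in
theorem tw_11_4_8 : enumC 13 (searchF 13 ps13) 6 70368744747792 2335 8 = true := by
  decide +kernel

set_option maxRecDepth 100000 in
theorem tw_11_4_9 : enumC 13 (searchF 13 ps13) 6 70368744813328 2591 9 = true := by
  decide +kernel

set_option maxRecDepth 100000 in
theorem tw_11_4_10 : enumC 13 (searchF 13 ps13) 6 70368744878864 3103 10 = true := by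
  decide +kernel

set_option maxRecDepth 100000 in
theorem tw_11_4_12 : enumC 13 (searchF 13 ps13) 6 70368745009936 6175 12 = true := by
  decide +kernel

end Cfsg.Agent.Helper9.AltGen
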