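import Mathlib
import Cfsg.Agent.Helper9.AltGen.Tw.Base

set_option autoImplicit false
set_option Elab.async false

/-!
A part of the enumeration on 13 points: the search holds at every cycle of the part.
-/

namespace Cfsg.Agent.Helper9.AltGen

open Cfsg.Agent.Helper9.T11

set_option maxRecDepth 100000 in
theorem tw_11_5_4 : enumC 13 (searchF 13 ps13) 6 87960934462224 2111 4 = true := by
  decide +kernel

set_option maxRecDepth 100000 in
theorem tw_11_5_6 : enumC 13 (searchF 13 ps13) 6 87960936559376 2159 6 = true := by
  decide +kernel

set_option maxRecDepth 100000 in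
theorem tw_11_5_7 : enumC 13 (searchF 13 ps13) 6 87960937607952 2223 7 = true := by
  decide +kernel

set_option maxRecDepth 100000 in
theorem tw_11_5_8 : enumC 13 (searchF 13 ps13) 6 87960938656528 2351 8 = true := by
  decide +kernel

set_option maxRecDepth 100000 in
theorem tw_11_5_9 : enumC 13 (searchF 13 ps13) 6 87960939705104 2607 9 = true := by
  decide +kernel

set_option maxRecDepth 100000 in
theorem tw_11_5_10 : enumC 13 (searchF 13 ps13) 6 87960940753680 3119 10 = true := by
  decide +kernel

set_option maxRecDepth 100000 in
theorem tw_11_5_12 : enumC 13 (searchF 13 ps13) 6 87960942850832 6191 12 = true := by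
  decide +kernel

set_option maxRecDepth 100000 in
theorem tw_11_6_4 : enumC 13 (searchF 13 ps13) 6 105553183421200 2143 4 = true := by
  decide +kernel

set_option maxRecDepth 100000 in
theorem tw_11_6_5 : enumC 13 (searchF 13 ps13) 6 105553200198416 2159 5 = true := by
  decide +kernel

set_option maxRecDepth 100000 in
theorem tw_11_6_7 : enumC 13 (searchF 13 ps13) 6 105553233752848 2255 7 = true := by
  decide +kernel

set_option maxRecDepth 100000 in
theorem tw_11_6_8 : enumC 13 (searchF 13 ps13) 6 105553250530064 2383 8 = true := by
  decide +kernel

set_option maxRecDepth 100000 in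
theorem tw_11_6_9 : enumC 13 (searchF 13 ps13) 6 105553267307280 2639 9 = true := by
  decide +kernel

set_option maxRecDepth 100000 in
theorem tw_11_6_10 : enumC 13 (searchF 13 ps13) 6 105553284084496 3151 10 = true := by
  decide +kernel

set_option maxRecDepth 100000 in
theorem tw_11_6_12 : enumC 13 (searchF 13 ps13) 6 105553317638928 6223 12 = true := by
  decide +kernel

set_option maxRecDepth 100000 in
theorem tw_11_7_4 : enumC 13 (searchF 13 ps13) 6 123146376098576 2207 4 = true := by
  decide +kernel

set_option maxRecDepth 100000 in
theorem tw_11_7_5 : enumC 13 (searchF 13 ps13) 6 123146644534032 2223 5 = true := by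
  decide +kernel

set_option maxRecDepth 100000 in
theorem tw_11_7_6 : enumC 13 (searchF 13 ps13) 6 123146912969488 2255 6 = true := by
  decide +kernel

set_option maxRecDepth 100000 in
theorem tw_11_7_8 : enumC 13 (searchF 13 ps13) 6 123147449840400 2447 8 = true := by
  decide +kernel

set_option maxRecDepth 100000 in
theorem tw_11_7_9 : enumC 13 (searchF 13 ps13) 6 123147718275856 2703 9 = true := by
  decide +kernel

set_option maxRecDepth 100000 in
theorem tw_11_7_10 : enumC 13 (searchF 13 ps13) 6 123147986711312 3215 10 = true := by
  decide +kernel

set_option maxRecDepth 100000 in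
theorem tw_11_7_12 : enumC 13 (searchF 13 ps13) 6 123148523582224 6287 12 = true := by
  decide +kernel

end Cfsg.Agent.Helper9.AltGen
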