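import Mathlib
import Cfsg.Agent.Helper9.AltGen.Tw.Base

set_option autoImplicit false
set_option Elab.async false

/-!
A part of the enumeration on 13 points: the search holds at every cycle of the part.
-/

namespace Cfsg.Agent.Helper9.AltGen

open Cfsg.Agent.Helper9.T11

set_option maxRecDepth 100000 in
theorem tw_4_11_5 : enumC 13 (searchF 13 ps13) 6 87960930960144 2111 5 = true := by
  decide +kernel

set_option maxRecDepth 100000 in
theorem tw_4_11_6 : enumC 13 (searchF 13 ps13) 6 105553117004560 2143 6 = true := by
  decide +kernel

set_option maxRecDepth 100000 in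
theorem tw_4_11_7 : enumC 13 (searchF 13 ps13) 6 123145303048976 2207 7 = true := by
  decide +kernel

set_option maxRecDepth 100000 in
theorem tw_4_11_8 : enumC 13 (searchF 13 ps13) 6 140737489093392 2335 8 = true := by
  decide +kernel

set_option maxRecDepth 100000 in
theorem tw_4_11_9 : enumC 13 (searchF 13 ps13) 6 158329675137808 2591 9 = true := by
  decide +kernel

set_option maxRecDepth 100000 in
theorem tw_4_11_10 : enumC 13 (searchF 13 ps13) 6 175921861182224 3103 10 = true := by
  decide +kernel

set_option maxRecDepth 100000 in
theorem tw_4_11_12 : enumC 13 (searchF 13 ps13) 6 211106233271056 6175 12 = true := by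
  decide +kernel

set_option maxRecDepth 100000 in
theorem tw_4_12_5 : enumC 13 (searchF 13 ps13) 6 1407374884356880 4159 5 = true := by
  decide +kernel

set_option maxRecDepth 100000 in
theorem tw_4_12_6 : enumC 13 (searchF 13 ps13) 6 1688849861067536 4191 6 = true := by
  decide +kernel

set_option maxRecDepth 100000 in
theorem tw_4_12_7 : enumC 13 (searchF 13 ps13) 6 1970324837778192 4255 7 = true := by
  decide +kernel

set_option maxRecDepth 100000 in
theorem tw_4_12_8 : enumC 13 (searchF 13 ps13) 6 2251799814488848 4383 8 = true := by
  decide +kernel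

set_option maxRecDepth 100000 in
theorem tw_4_12_9 : enumC 13 (searchF 13 ps13) 6 2533274791199504 4639 9 = true := by
  decide +kernel

set_option maxRecDepth 100000 in
theorem tw_4_12_10 : enumC 13 (searchF 13 ps13) 6 2814749767910160 5151 10 = true := by
  decide +kernel

set_option maxRecDepth 100000 in
theorem tw_4_12_11 : enumC 13 (searchF 13 ps13) 6 3096224744620816 6175 11 = true := by
  decide +kernel

set_option maxRecDepth 100000 in
theorem tw_5_4_6 : enumC 13 (searchF 13 ps13) 6 4608784 127 6 = true := by
  decide +kernel

set_option maxRecDepth 100000 in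
theorem tw_5_4_7 : enumC 13 (searchF 13 ps13) 6 4674320 191 7 = true := by
  decide +kernel

set_option maxRecDepth 100000 in
theorem tw_5_4_8 : enumC 13 (searchF 13 ps13) 6 4739856 319 8 = true := by
  decide +kernel

set_option maxRecDepth 100000 in
theorem tw_5_4_9 : enumC 13 (searchF 13 ps13) 6 4805392 575 9 = true := by
  decide +kernel

set_option maxRecDepth 100000 in
theorem tw_5_4_10 : enumC 13 (searchF 13 ps13) 6 4870928 1087 10 = true := by
  decide +kernel

set_option maxRecDepth 100000 in
theorem tw_5_4_11 : enumC 13 (searchF 13 ps13) 6 4936464 2111 11 = true := by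
  decide +kernel

set_option maxRecDepth 100000 in
theorem tw_5_4_12 : enumC 13 (searchF 13 ps13) 6 5002000 4159 12 = true := by
  decide +kernel

end Cfsg.Agent.Helper9.AltGen
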