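import Mathlib
import Cfsg.Agent.Helper9.AltGen.Tw.Base

set_option autoImplicit false
set_option Elab.async false

/-!
A part of the enumeration on 13 points: the search holds at every cycle of the part.
-/

namespace Cfsg.Agent.Helper9.AltGen

open Cfsg.Agent.Helper9.T11

set_option maxRecDepth 100000 in
theorem tw_11_8_4 : enumC 13 (searchF 13 ps13) 6 140754668270352 2335 4 = true := by
  decide +kernel

set_option maxRecDepth 100000 in
theorem tw_11_8_5 : enumC 13 (searchF 13 ps13) 6 140758963237648 2351 5 = true := by
  decide +kernel

set_option maxRecDepth 100000 in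
theorem tw_11_8_6 : enumC 13 (searchF 13 ps13) 6 140763258204944 2383 6 = true := by
  decide +kernel

set_option maxRecDepth 100000 in
theorem tw_11_8_7 : enumC 13 (searchF 13 ps13) 6 140767553172240 2447 7 = true := by
  decide +kernel

set_option maxRecDepth 100000 in
theorem tw_11_8_9 : enumC 13 (searchF 13 ps13) 6 140776143106832 2831 9 = true := by
  decide +kernel

set_option maxRecDepth 100000 in
theorem tw_11_8_10 : enumC 13 (searchF 13 ps13) 6 140780438074128 3343 10 = true := by
  decide +kernel

set_option maxRecDepth 100000 in
theorem tw_11_8_12 : enumC 13 (searchF 13 ps13) 6 140789028008720 6415 12 = true := by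
  decide +kernel

set_option maxRecDepth 100000 in
theorem tw_11_9_4 : enumC 13 (searchF 13 ps13) 6 158604552352528 2591 4 = true := by
  decide +kernel

set_option maxRecDepth 100000 in
theorem tw_11_9_5 : enumC 13 (searchF 13 ps13) 6 158673271829264 2607 5 = true := by
  decide +kernel

set_option maxRecDepth 100000 in
theorem tw_11_9_6 : enumC 13 (searchF 13 ps13) 6 158741991306000 2639 6 = true := by
  decide +kernel

set_option maxRecDepth 100000 in
theorem tw_11_9_7 : enumC 13 (searchF 13 ps13) 6 158810710782736 2703 7 = true := by
  decide +kernel

set_option maxRecDepth 100000 in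
theorem tw_11_9_8 : enumC 13 (searchF 13 ps13) 6 158879430259472 2831 8 = true := by
  decide +kernel

set_option maxRecDepth 100000 in
theorem tw_11_9_10 : enumC 13 (searchF 13 ps13) 6 159016869212944 3599 10 = true := by
  decide +kernel

set_option maxRecDepth 100000 in
theorem tw_11_9_12 : enumC 13 (searchF 13 ps13) 6 159154308166416 6671 12 = true := by
  decide +kernel

set_option maxRecDepth 100000 in
theorem tw_11_10_4 : enumC 13 (searchF 13 ps13) 6 180319907001104 3103 4 = true := by
  decide +kernel

set_option maxRecDepth 100000 in
theorem tw_11_10_5 : enumC 13 (searchF 13 ps13) 6 181419418628880 3119 5 = true := by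
  decide +kernel

set_option maxRecDepth 100000 in
theorem tw_11_10_6 : enumC 13 (searchF 13 ps13) 6 182518930256656 3151 6 = true := by
  decide +kernel

set_option maxRecDepth 100000 in
theorem tw_11_10_7 : enumC 13 (searchF 13 ps13) 6 183618441884432 3215 7 = true := by
  decide +kernel

set_option maxRecDepth 100000 in
theorem tw_11_10_8 : enumC 13 (searchF 13 ps13) 6 184717953512208 3343 8 = true := by
  decide +kernel

set_option maxRecDepth 100000 in
theorem tw_11_10_9 : enumC 13 (searchF 13 ps13) 6 185817465139984 3599 9 = true := by
  decide +kernel

set_option maxRecDepth 100000 in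
theorem tw_11_10_12 : enumC 13 (searchF 13 ps13) 6 189116000023312 7183 12 = true := by
  decide +kernel

end Cfsg.Agent.Helper9.AltGen
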