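import Mathlib
import Cfsg.Agent.Helper9.AltGen.Tw.Base

set_option autoImplicit false
set_option Elab.async false

/-!
A part of the enumeration on 13 points: the search holds at every cycle of the part.
-/

namespace Cfsg.Agent.Helper9.AltGen

open Cfsg.Agent.Helper9.T11

set_option maxRecDepth 100000 in
theorem tw_11_12_4 : enumC 13 (searchF 13 ps13) 6 1337006139421456 6175 4 = true := by
  decide +kernel

set_option maxRecDepth 100000 in
theorem tw_11_12_5 : enumC 13 (searchF 13 ps13) 6 1618481116132112 6191 5 = true := by
  decide +kernel

set_option maxRecDepth 100000 in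
theorem tw_11_12_6 : enumC 13 (searchF 13 ps13) 6 1899956092842768 6223 6 = true := by
  decide +kernel

set_option maxRecDepth 100000 in
theorem tw_11_12_7 : enumC 13 (searchF 13 ps13) 6 2181431069553424 6287 7 = true := by
  decide +kernel

set_option maxRecDepth 100000 in
theorem tw_11_12_8 : enumC 13 (searchF 13 ps13) 6 2462906046264080 6415 8 = true := by
  decide +kernel

set_option maxRecDepth 100000 in
theorem tw_11_12_9 : enumC 13 (searchF 13 ps13) 6 2744381022974736 6671 9 = true := by
  decide +kernel

set_option maxRecDepth 100000 in
theorem tw_11_12_10 : enumC 13 (searchF 13 ps13) 6 3025855999685392 7183 10 = true := by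
  decide +kernel

set_option maxRecDepth 100000 in
theorem tw_12_4_5 : enumC 13 (searchF 13 ps13) 6 1125899907220240 4159 5 = true := by
  decide +kernel

set_option maxRecDepth 100000 in
theorem tw_12_4_6 : enumC 13 (searchF 13 ps13) 6 1125899907285776 4191 6 = true := by
  decide +kernel

set_option maxRecDepth 100000 in
theorem tw_12_4_7 : enumC 13 (searchF 13 ps13) 6 1125899907351312 4255 7 = true := by
  decide +kernel

set_option maxRecDepth 100000 in
theorem tw_12_4_8 : enumC 13 (searchF 13 ps13) 6 1125899907416848 4383 8 = true := by
  decide +kernel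

set_option maxRecDepth 100000 in
theorem tw_12_4_9 : enumC 13 (searchF 13 ps13) 6 1125899907482384 4639 9 = true := by
  decide +kernel

set_option maxRecDepth 100000 in
theorem tw_12_4_10 : enumC 13 (searchF 13 ps13) 6 1125899907547920 5151 10 = true := by
  decide +kernel

set_option maxRecDepth 100000 in
theorem tw_12_4_11 : enumC 13 (searchF 13 ps13) 6 1125899907613456 6175 11 = true := by
  decide +kernel

set_option maxRecDepth 100000 in
theorem tw_12_5_4 : enumC 13 (searchF 13 ps13) 6 1407374887797520 4159 4 = true := by
  decide +kernel

set_option maxRecDepth 100000 in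
theorem tw_12_5_6 : enumC 13 (searchF 13 ps13) 6 1407374889894672 4207 6 = true := by
  decide +kernel

set_option maxRecDepth 100000 in
theorem tw_12_5_7 : enumC 13 (searchF 13 ps13) 6 1407374890943248 4271 7 = true := by
  decide +kernel

set_option maxRecDepth 100000 in
theorem tw_12_5_8 : enumC 13 (searchF 13 ps13) 6 1407374891991824 4399 8 = true := by
  decide +kernel

set_option maxRecDepth 100000 in
theorem tw_12_5_9 : enumC 13 (searchF 13 ps13) 6 1407374893040400 4655 9 = true := by
  decide +kernel

set_option maxRecDepth 100000 in
theorem tw_12_5_10 : enumC 13 (searchF 13 ps13) 6 1407374894088976 5167 10 = true := by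
  decide +kernel

set_option maxRecDepth 100000 in
theorem tw_12_5_11 : enumC 13 (searchF 13 ps13) 6 1407374895137552 6191 11 = true := by
  decide +kernel

end Cfsg.Agent.Helper9.AltGen
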