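import Mathlib
import Cfsg.Agent.Helper9.AltGen.Tw.Base

set_option autoImplicit false
set_option Elab.async false

/-!
A part of the enumeration on 13 points: the search holds at every cycle of the part.
-/

namespace Cfsg.Agent.Helper9.AltGen

open Cfsg.Agent.Helper9.T11

set_option maxRecDepth 100000 in
theorem tw_12_6_4 : enumC 13 (searchF 13 ps13) 6 1688849927422736 4191 4 = true := by
  decide +kernel

set_option maxRecDepth 100000 in
theorem tw_12_6_5 : enumC 13 (searchF 13 ps13) 6 1688849944199952 4207 5 = true := by
  decide +kernel

set_option maxRecDepth 100000 in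
theorem tw_12_6_7 : enumC 13 (searchF 13 ps13) 6 1688849977754384 4303 7 = true := by
  decide +kernel

set_option maxRecDepth 100000 in
theorem tw_12_6_8 : enumC 13 (searchF 13 ps13) 6 1688849994531600 4431 8 = true := by
  decide +kernel

set_option maxRecDepth 100000 in
theorem tw_12_6_9 : enumC 13 (searchF 13 ps13) 6 1688850011308816 4687 9 = true := by
  decide +kernel

set_option maxRecDepth 100000 in
theorem tw_12_6_10 : enumC 13 (searchF 13 ps13) 6 1688850028086032 5199 10 = true := by
  decide +kernel

set_option maxRecDepth 100000 in
theorem tw_12_6_11 : enumC 13 (searchF 13 ps13) 6 1688850044863248 6223 11 = true := by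
  decide +kernel

set_option maxRecDepth 100000 in
theorem tw_12_7_4 : enumC 13 (searchF 13 ps13) 6 1970325910766352 4255 4 = true := by
  decide +kernel

set_option maxRecDepth 100000 in
theorem tw_12_7_5 : enumC 13 (searchF 13 ps13) 6 1970326179201808 4271 5 = true := by
  decide +kernel

set_option maxRecDepth 100000 in
theorem tw_12_7_6 : enumC 13 (searchF 13 ps13) 6 1970326447637264 4303 6 = true := by
  decide +kernel

set_option maxRecDepth 100000 in
theorem tw_12_7_8 : enumC 13 (searchF 13 ps13) 6 1970326984508176 4495 8 = true := by
  decide +kernel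

set_option maxRecDepth 100000 in
theorem tw_12_7_9 : enumC 13 (searchF 13 ps13) 6 1970327252943632 4751 9 = true := by
  decide +kernel

set_option maxRecDepth 100000 in
theorem tw_12_7_10 : enumC 13 (searchF 13 ps13) 6 1970327521379088 5263 10 = true := by
  decide +kernel

set_option maxRecDepth 100000 in
theorem tw_12_7_11 : enumC 13 (searchF 13 ps13) 6 1970327789814544 6287 11 = true := by
  decide +kernel

set_option maxRecDepth 100000 in
theorem tw_12_8_4 : enumC 13 (searchF 13 ps13) 6 2251816993604368 4383 4 = true := by
  decide +kernel

set_option maxRecDepth 100000 in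
theorem tw_12_8_5 : enumC 13 (searchF 13 ps13) 6 2251821288571664 4399 5 = true := by
  decide +kernel

set_option maxRecDepth 100000 in
theorem tw_12_8_6 : enumC 13 (searchF 13 ps13) 6 2251825583538960 4431 6 = true := by
  decide +kernel

set_option maxRecDepth 100000 in
theorem tw_12_8_7 : enumC 13 (searchF 13 ps13) 6 2251829878506256 4495 7 = true := by
  decide +kernel

set_option maxRecDepth 100000 in
theorem tw_12_8_9 : enumC 13 (searchF 13 ps13) 6 2251838468440848 4879 9 = true := by
  decide +kernel

set_option maxRecDepth 100000 in
theorem tw_12_8_10 : enumC 13 (searchF 13 ps13) 6 2251842763408144 5391 10 = true := by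
  decide +kernel

set_option maxRecDepth 100000 in
theorem tw_12_8_11 : enumC 13 (searchF 13 ps13) 6 2251847058375440 6415 11 = true := by
  decide +kernel

end Cfsg.Agent.Helper9.AltGen
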