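import Mathlib
import Cfsg.Agent.Helper9.AltGen.Tw.Base

set_option autoImplicit false
set_option Elab.async false

/-!
A part of the enumeration on 13 points: the search holds at every cycle of the part.
-/

namespace Cfsg.Agent.Helper9.AltGen

open Cfsg.Agent.Helper9.T11

set_option maxRecDepth 100000 in
theorem tw_12_9_4 : enumC 13 (searchF 13 ps13) 6 2533549668352784 4639 4 = true := by
  decide +kernel

set_option maxRecDepth 100000 in
theorem tw_12_9_5 : enumC 13 (searchF 13 ps13) 6 2533618387829520 4655 5 = true := by
  decide +kernel

set_option maxRecDepth 100000 in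
theorem tw_12_9_6 : enumC 13 (searchF 13 ps13) 6 2533687107306256 4687 6 = true := by
  decide +kernel

set_option maxRecDepth 100000 in
theorem tw_12_9_7 : enumC 13 (searchF 13 ps13) 6 2533755826782992 4751 7 = true := by
  decide +kernel

set_option maxRecDepth 100000 in
theorem tw_12_9_8 : enumC 13 (searchF 13 ps13) 6 2533824546259728 4879 8 = true := by
  decide +kernel

set_option maxRecDepth 100000 in
theorem tw_12_9_10 : enumC 13 (searchF 13 ps13) 6 2533961985213200 5647 10 = true := by
  decide +kernel

set_option maxRecDepth 100000 in
theorem tw_12_9_11 : enumC 13 (searchF 13 ps13) 6 2534030704689936 6671 11 = true := by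
  decide +kernel

set_option maxRecDepth 100000 in
theorem tw_12_10_4 : enumC 13 (searchF 13 ps13) 6 2819147813667600 5151 4 = true := by
  decide +kernel

set_option maxRecDepth 100000 in
theorem tw_12_10_5 : enumC 13 (searchF 13 ps13) 6 2820247325295376 5167 5 = true := by
  decide +kernel

set_option maxRecDepth 100000 in
theorem tw_12_10_6 : enumC 13 (searchF 13 ps13) 6 2821346836923152 5199 6 = true := by
  decide +kernel

set_option maxRecDepth 100000 in
theorem tw_12_10_7 : enumC 13 (searchF 13 ps13) 6 2822446348550928 5263 7 = true := by
  decide +kernel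

set_option maxRecDepth 100000 in
theorem tw_12_10_8 : enumC 13 (searchF 13 ps13) 6 2823545860178704 5391 8 = true := by
  decide +kernel

set_option maxRecDepth 100000 in
theorem tw_12_10_9 : enumC 13 (searchF 13 ps13) 6 2824645371806480 5647 9 = true := by
  decide +kernel

set_option maxRecDepth 100000 in
theorem tw_12_10_11 : enumC 13 (searchF 13 ps13) 6 2826844395062032 7183 11 = true := by
  decide +kernel

set_option maxRecDepth 100000 in
theorem tw_12_11_4 : enumC 13 (searchF 13 ps13) 6 3166593488044816 6175 4 = true := by
  decide +kernel

set_option maxRecDepth 100000 in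
theorem tw_12_11_5 : enumC 13 (searchF 13 ps13) 6 3184185674089232 6191 5 = true := by
  decide +kernel

set_option maxRecDepth 100000 in
theorem tw_12_11_6 : enumC 13 (searchF 13 ps13) 6 3201777860133648 6223 6 = true := by
  decide +kernel

set_option maxRecDepth 100000 in
theorem tw_12_11_7 : enumC 13 (searchF 13 ps13) 6 3219370046178064 6287 7 = true := by
  decide +kernel

set_option maxRecDepth 100000 in
theorem tw_12_11_8 : enumC 13 (searchF 13 ps13) 6 3236962232222480 6415 8 = true := by
  decide +kernel

set_option maxRecDepth 100000 in
theorem tw_12_11_9 : enumC 13 (searchF 13 ps13) 6 3254554418266896 6671 9 = true := by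
  decide +kernel

set_option maxRecDepth 100000 in
theorem tw_12_11_10 : enumC 13 (searchF 13 ps13) 6 3272146604311312 7183 10 = true := by
  decide +kernel

end Cfsg.Agent.Helper9.AltGen
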