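import Mathlib
import Cfsg.Agent.Helper9.AltGen.Tw.Base

set_option autoImplicit false
set_option Elab.async false

/-!
A part of the enumeration on 13 points: the search holds at every cycle of the part.
-/

namespace Cfsg.Agent.Helper9.AltGen

open Cfsg.Agent.Helper9.T11

set_option maxRecDepth 100000 in
theorem tw_5_6_4 : enumC 13 (searchF 13 ps13) 6 73421584 127 4 = true := by
  decide +kernel

set_option maxRecDepth 100000 in
theorem tw_5_6_7 : enumC 13 (searchF 13 ps13) 6 123753232 239 7 = true := by
  decide +kernel

set_option maxRecDepth 100000 in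
theorem tw_5_6_8 : enumC 13 (searchF 13 ps13) 6 140530448 367 8 = true := by
  decide +kernel

set_option maxRecDepth 100000 in
theorem tw_5_6_9 : enumC 13 (searchF 13 ps13) 6 157307664 623 9 = true := by
  decide +kernel

set_option maxRecDepth 100000 in
theorem tw_5_6_10 : enumC 13 (searchF 13 ps13) 6 174084880 1135 10 = true := by
  decide +kernel

set_option maxRecDepth 100000 in
theorem tw_5_6_11 : enumC 13 (searchF 13 ps13) 6 190862096 2159 11 = true := by
  decide +kernel

set_option maxRecDepth 100000 in
theorem tw_5_6_12 : enumC 13 (searchF 13 ps13) 6 207639312 4207 12 = true := by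
  decide +kernel

set_option maxRecDepth 100000 in
theorem tw_5_7_4 : enumC 13 (searchF 13 ps13) 6 1081103120 191 4 = true := by
  decide +kernel

set_option maxRecDepth 100000 in
theorem tw_5_7_6 : enumC 13 (searchF 13 ps13) 6 1617974032 239 6 = true := by
  decide +kernel

set_option maxRecDepth 100000 in
theorem tw_5_7_8 : enumC 13 (searchF 13 ps13) 6 2154844944 431 8 = true := by
  decide +kernel

set_option maxRecDepth 100000 in
theorem tw_5_7_9 : enumC 13 (searchF 13 ps13) 6 2423280400 687 9 = true := by
  decide +kernel

set_option maxRecDepth 100000 in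
theorem tw_5_7_10 : enumC 13 (searchF 13 ps13) 6 2691715856 1199 10 = true := by
  decide +kernel

set_option maxRecDepth 100000 in
theorem tw_5_7_11 : enumC 13 (searchF 13 ps13) 6 2960151312 2223 11 = true := by
  decide +kernel

set_option maxRecDepth 100000 in
theorem tw_5_7_12 : enumC 13 (searchF 13 ps13) 6 3228586768 4271 12 = true := by
  decide +kernel

set_option maxRecDepth 100000 in
theorem tw_5_8_4 : enumC 13 (searchF 13 ps13) 6 17188279056 319 4 = true := by
  decide +kernel

set_option maxRecDepth 100000 in
theorem tw_5_8_6 : enumC 13 (searchF 13 ps13) 6 25778213648 367 6 = true := by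
  decide +kernel

set_option maxRecDepth 100000 in
theorem tw_5_8_7 : enumC 13 (searchF 13 ps13) 6 30073180944 431 7 = true := by
  decide +kernel

set_option maxRecDepth 100000 in
theorem tw_5_8_9 : enumC 13 (searchF 13 ps13) 6 38663115536 815 9 = true := by
  decide +kernel

set_option maxRecDepth 100000 in
theorem tw_5_8_10 : enumC 13 (searchF 13 ps13) 6 42958082832 1327 10 = true := by
  decide +kernel

set_option maxRecDepth 100000 in
theorem tw_5_8_11 : enumC 13 (searchF 13 ps13) 6 47253050128 2351 11 = true := by
  decide +kernel

set_option maxRecDepth 100000 in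
theorem tw_5_8_12 : enumC 13 (searchF 13 ps13) 6 51548017424 4399 12 = true := by
  decide +kernel

end Cfsg.Agent.Helper9.AltGen
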