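import Mathlib
import Cfsg.Agent.Helper9.AltGen.Tw.Base

set_option autoImplicit false
set_option Elab.async false

/-!
A part of the enumeration on 13 points: the search holds at every cycle of the part.
-/

namespace Cfsg.Agent.Helper9.AltGen

open Cfsg.Agent.Helper9.T11

set_option maxRecDepth 100000 in
theorem tw_5_9_4 : enumC 13 (searchF 13 ps13) 6 274887365392 575 4 = true := by
  decide +kernel

set_option maxRecDepth 100000 in
theorem tw_5_9_6 : enumC 13 (searchF 13 ps13) 6 412326318864 623 6 = true := by
  decide +kernel

set_option maxRecDepth 100000 in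
theorem tw_5_9_7 : enumC 13 (searchF 13 ps13) 6 481045795600 687 7 = true := by
  decide +kernel

set_option maxRecDepth 100000 in
theorem tw_5_9_8 : enumC 13 (searchF 13 ps13) 6 549765272336 815 8 = true := by
  decide +kernel

set_option maxRecDepth 100000 in
theorem tw_5_9_10 : enumC 13 (searchF 13 ps13) 6 687204225808 1583 10 = true := by
  decide +kernel

set_option maxRecDepth 100000 in
theorem tw_5_9_11 : enumC 13 (searchF 13 ps13) 6 755923702544 2607 11 = true := by
  decide +kernel

set_option maxRecDepth 100000 in
theorem tw_5_9_12 : enumC 13 (searchF 13 ps13) 6 824643179280 4655 12 = true := by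
  decide +kernel

set_option maxRecDepth 100000 in
theorem tw_5_10_4 : enumC 13 (searchF 13 ps13) 6 4398057018128 1087 4 = true := by
  decide +kernel

set_option maxRecDepth 100000 in
theorem tw_5_10_6 : enumC 13 (searchF 13 ps13) 6 6597080273680 1135 6 = true := by
  decide +kernel

set_option maxRecDepth 100000 in
theorem tw_5_10_7 : enumC 13 (searchF 13 ps13) 6 7696591901456 1199 7 = true := by
  decide +kernel

set_option maxRecDepth 100000 in
theorem tw_5_10_8 : enumC 13 (searchF 13 ps13) 6 8796103529232 1327 8 = true := by
  decide +kernel

set_option maxRecDepth 100000 in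
theorem tw_5_10_9 : enumC 13 (searchF 13 ps13) 6 9895615157008 1583 9 = true := by
  decide +kernel

set_option maxRecDepth 100000 in
theorem tw_5_10_11 : enumC 13 (searchF 13 ps13) 6 12094638412560 3119 11 = true := by
  decide +kernel

set_option maxRecDepth 100000 in
theorem tw_5_10_12 : enumC 13 (searchF 13 ps13) 6 13194150040336 5167 12 = true := by
  decide +kernel

set_option maxRecDepth 100000 in
theorem tw_5_11_4 : enumC 13 (searchF 13 ps13) 6 70368755733264 2111 4 = true := by
  decide +kernel

set_option maxRecDepth 100000 in
theorem tw_5_11_6 : enumC 13 (searchF 13 ps13) 6 105553127822096 2159 6 = true := by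
  decide +kernel

set_option maxRecDepth 100000 in
theorem tw_5_11_7 : enumC 13 (searchF 13 ps13) 6 123145313866512 2223 7 = true := by
  decide +kernel

set_option maxRecDepth 100000 in
theorem tw_5_11_8 : enumC 13 (searchF 13 ps13) 6 140737499910928 2351 8 = true := by
  decide +kernel

set_option maxRecDepth 100000 in
theorem tw_5_11_9 : enumC 13 (searchF 13 ps13) 6 158329685955344 2607 9 = true := by
  decide +kernel

set_option maxRecDepth 100000 in
theorem tw_5_11_10 : enumC 13 (searchF 13 ps13) 6 175921871999760 3119 10 = true := by
  decide +kernel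

set_option maxRecDepth 100000 in
theorem tw_5_11_12 : enumC 13 (searchF 13 ps13) 6 211106244088592 6191 12 = true := by
  decide +kernel

end Cfsg.Agent.Helper9.AltGen
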