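import Mathlib
import Cfsg.Agent.Helper9.AltGen.Tw.Base

set_option autoImplicit false
set_option Elab.async false

/-!
A part of the enumeration on 13 points: the search holds at every cycle of the part.
-/

namespace Cfsg.Agent.Helper9.AltGen

open Cfsg.Agent.Helper9.T11

set_option maxRecDepth 100000 in
theorem tw_5_12_4 : enumC 13 (searchF 13 ps13) 6 1125899919446800 4159 4 = true := by
  decide +kernel

set_option maxRecDepth 100000 in
theorem tw_5_12_6 : enumC 13 (searchF 13 ps13) 6 1688849872868112 4207 6 = true := by
  decide +kernel

set_option maxRecDepth 100000 in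
theorem tw_5_12_7 : enumC 13 (searchF 13 ps13) 6 1970324849578768 4271 7 = true := by
  decide +kernel

set_option maxRecDepth 100000 in
theorem tw_5_12_8 : enumC 13 (searchF 13 ps13) 6 2251799826289424 4399 8 = true := by
  decide +kernel

set_option maxRecDepth 100000 in
theorem tw_5_12_9 : enumC 13 (searchF 13 ps13) 6 2533274803000080 4655 9 = true := by
  decide +kernel

set_option maxRecDepth 100000 in
theorem tw_5_12_10 : enumC 13 (searchF 13 ps13) 6 2814749779710736 5167 10 = true := by
  decide +kernel

set_option maxRecDepth 100000 in
theorem tw_5_12_11 : enumC 13 (searchF 13 ps13) 6 3096224756421392 6191 11 = true := by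
  decide +kernel

set_option maxRecDepth 100000 in
theorem tw_6_4_5 : enumC 13 (searchF 13 ps13) 6 67461904 127 5 = true := by
  decide +kernel

set_option maxRecDepth 100000 in
theorem tw_6_4_7 : enumC 13 (searchF 13 ps13) 6 67592976 223 7 = true := by
  decide +kernel

set_option maxRecDepth 100000 in
theorem tw_6_4_8 : enumC 13 (searchF 13 ps13) 6 67658512 351 8 = true := by
  decide +kernel

set_option maxRecDepth 100000 in
theorem tw_6_4_9 : enumC 13 (searchF 13 ps13) 6 67724048 607 9 = true := by
  decide +kernel

set_option maxRecDepth 100000 in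
theorem tw_6_4_10 : enumC 13 (searchF 13 ps13) 6 67789584 1119 10 = true := by
  decide +kernel

set_option maxRecDepth 100000 in
theorem tw_6_4_11 : enumC 13 (searchF 13 ps13) 6 67855120 2143 11 = true := by
  decide +kernel

set_option maxRecDepth 100000 in
theorem tw_6_4_12 : enumC 13 (searchF 13 ps13) 6 67920656 4191 12 = true := by
  decide +kernel

set_option maxRecDepth 100000 in
theorem tw_6_5_4 : enumC 13 (searchF 13 ps13) 6 88105744 127 4 = true := by
  decide +kernel

set_option maxRecDepth 100000 in
theorem tw_6_5_7 : enumC 13 (searchF 13 ps13) 6 91251472 239 7 = true := by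
  decide +kernel

set_option maxRecDepth 100000 in
theorem tw_6_5_8 : enumC 13 (searchF 13 ps13) 6 92300048 367 8 = true := by
  decide +kernel

set_option maxRecDepth 100000 in
theorem tw_6_5_9 : enumC 13 (searchF 13 ps13) 6 93348624 623 9 = true := by
  decide +kernel

set_option maxRecDepth 100000 in
theorem tw_6_5_10 : enumC 13 (searchF 13 ps13) 6 94397200 1135 10 = true := by
  decide +kernel

set_option maxRecDepth 100000 in
theorem tw_6_5_11 : enumC 13 (searchF 13 ps13) 6 95445776 2159 11 = true := by
  decide +kernel

set_option maxRecDepth 100000 in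
theorem tw_6_5_12 : enumC 13 (searchF 13 ps13) 6 96494352 4207 12 = true := by
  decide +kernel

end Cfsg.Agent.Helper9.AltGen
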