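import Mathlib
import Cfsg.Agent.Helper9.AltGen.Tw.Base

set_option autoImplicit false
set_option Elab.async false

/-!
A part of the enumeration on 13 points: the search holds at every cycle of the part.
-/

namespace Cfsg.Agent.Helper9.AltGen

open Cfsg.Agent.Helper9.T11

set_option maxRecDepth 100000 in
theorem tw_6_7_4 : enumC 13 (searchF 13 ps13) 6 1191207696 223 4 = true := by
  decide +kernel

set_option maxRecDepth 100000 in
theorem tw_6_7_5 : enumC 13 (searchF 13 ps13) 6 1459643152 239 5 = true := by
  decide +kernel

set_option maxRecDepth 100000 in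
theorem tw_6_7_8 : enumC 13 (searchF 13 ps13) 6 2264949520 463 8 = true := by
  decide +kernel

set_option maxRecDepth 100000 in
theorem tw_6_7_9 : enumC 13 (searchF 13 ps13) 6 2533384976 719 9 = true := by
  decide +kernel

set_option maxRecDepth 100000 in
theorem tw_6_7_10 : enumC 13 (searchF 13 ps13) 6 2801820432 1231 10 = true := by
  decide +kernel

set_option maxRecDepth 100000 in
theorem tw_6_7_11 : enumC 13 (searchF 13 ps13) 6 3070255888 2255 11 = true := by
  decide +kernel

set_option maxRecDepth 100000 in
theorem tw_6_7_12 : enumC 13 (searchF 13 ps13) 6 3338691344 4303 12 = true := by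
  decide +kernel

set_option maxRecDepth 100000 in
theorem tw_6_8_4 : enumC 13 (searchF 13 ps13) 6 17314112272 351 4 = true := by
  decide +kernel

set_option maxRecDepth 100000 in
theorem tw_6_8_5 : enumC 13 (searchF 13 ps13) 6 21609079568 367 5 = true := by
  decide +kernel

set_option maxRecDepth 100000 in
theorem tw_6_8_7 : enumC 13 (searchF 13 ps13) 6 30199014160 463 7 = true := by
  decide +kernel

set_option maxRecDepth 100000 in
theorem tw_6_8_9 : enumC 13 (searchF 13 ps13) 6 38788948752 847 9 = true := by
  decide +kernel

set_option maxRecDepth 100000 in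
theorem tw_6_8_10 : enumC 13 (searchF 13 ps13) 6 43083916048 1359 10 = true := by
  decide +kernel

set_option maxRecDepth 100000 in
theorem tw_6_8_11 : enumC 13 (searchF 13 ps13) 6 47378883344 2383 11 = true := by
  decide +kernel

set_option maxRecDepth 100000 in
theorem tw_6_8_12 : enumC 13 (searchF 13 ps13) 6 51673850640 4431 12 = true := by
  decide +kernel

set_option maxRecDepth 100000 in
theorem tw_6_9_4 : enumC 13 (searchF 13 ps13) 6 275028927248 607 4 = true := by
  decide +kernel

set_option maxRecDepth 100000 in
theorem tw_6_9_5 : enumC 13 (searchF 13 ps13) 6 343748403984 623 5 = true := by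
  decide +kernel

set_option maxRecDepth 100000 in
theorem tw_6_9_7 : enumC 13 (searchF 13 ps13) 6 481187357456 719 7 = true := by
  decide +kernel

set_option maxRecDepth 100000 in
theorem tw_6_9_8 : enumC 13 (searchF 13 ps13) 6 549906834192 847 8 = true := by
  decide +kernel

set_option maxRecDepth 100000 in
theorem tw_6_9_10 : enumC 13 (searchF 13 ps13) 6 687345787664 1615 10 = true := by
  decide +kernel

set_option maxRecDepth 100000 in
theorem tw_6_9_11 : enumC 13 (searchF 13 ps13) 6 756065264400 2639 11 = true := by
  decide +kernel

set_option maxRecDepth 100000 in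
theorem tw_6_9_12 : enumC 13 (searchF 13 ps13) 6 824784741136 4687 12 = true := by
  decide +kernel

end Cfsg.Agent.Helper9.AltGen
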