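import Mathlib
import Cfsg.Agent.Helper9.AltGen.Tw.Base

set_option autoImplicit false
set_option Elab.async false

/-!
A part of the enumeration on 13 points: the search holds at every cycle of the part.
-/

namespace Cfsg.Agent.Helper9.AltGen

open Cfsg.Agent.Helper9.T11

set_option maxRecDepth 100000 in
theorem tw_6_10_4 : enumC 13 (searchF 13 ps13) 6 4398214308624 1119 4 = true := by
  decide +kernel

set_option maxRecDepth 100000 in
theorem tw_6_10_5 : enumC 13 (searchF 13 ps13) 6 5497725936400 1135 5 = true := by
  decide +kernel

set_option maxRecDepth 100000 in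
theorem tw_6_10_7 : enumC 13 (searchF 13 ps13) 6 7696749191952 1231 7 = true := by
  decide +kernel

set_option maxRecDepth 100000 in
theorem tw_6_10_8 : enumC 13 (searchF 13 ps13) 6 8796260819728 1359 8 = true := by
  decide +kernel

set_option maxRecDepth 100000 in
theorem tw_6_10_9 : enumC 13 (searchF 13 ps13) 6 9895772447504 1615 9 = true := by
  decide +kernel

set_option maxRecDepth 100000 in
theorem tw_6_10_11 : enumC 13 (searchF 13 ps13) 6 12094795703056 3151 11 = true := by
  decide +kernel

set_option maxRecDepth 100000 in
theorem tw_6_10_12 : enumC 13 (searchF 13 ps13) 6 13194307330832 5199 12 = true := by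
  decide +kernel

set_option maxRecDepth 100000 in
theorem tw_6_11_4 : enumC 13 (searchF 13 ps13) 6 70368928752400 2143 4 = true := by
  decide +kernel

set_option maxRecDepth 100000 in
theorem tw_6_11_5 : enumC 13 (searchF 13 ps13) 6 87961114796816 2159 5 = true := by
  decide +kernel

set_option maxRecDepth 100000 in
theorem tw_6_11_7 : enumC 13 (searchF 13 ps13) 6 123145486885648 2255 7 = true := by
  decide +kernel

set_option maxRecDepth 100000 in
theorem tw_6_11_8 : enumC 13 (searchF 13 ps13) 6 140737672930064 2383 8 = true := by
  decide +kernel

set_option maxRecDepth 100000 in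
theorem tw_6_11_9 : enumC 13 (searchF 13 ps13) 6 158329858974480 2639 9 = true := by
  decide +kernel

set_option maxRecDepth 100000 in
theorem tw_6_11_10 : enumC 13 (searchF 13 ps13) 6 175922045018896 3151 10 = true := by
  decide +kernel

set_option maxRecDepth 100000 in
theorem tw_6_11_12 : enumC 13 (searchF 13 ps13) 6 211106417107728 6223 12 = true := by
  decide +kernel

set_option maxRecDepth 100000 in
theorem tw_6_12_4 : enumC 13 (searchF 13 ps13) 6 1125900108194576 4191 4 = true := by
  decide +kernel

set_option maxRecDepth 100000 in
theorem tw_6_12_5 : enumC 13 (searchF 13 ps13) 6 1407375084905232 4207 5 = true := by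
  decide +kernel

set_option maxRecDepth 100000 in
theorem tw_6_12_7 : enumC 13 (searchF 13 ps13) 6 1970325038326544 4303 7 = true := by
  decide +kernel

set_option maxRecDepth 100000 in
theorem tw_6_12_8 : enumC 13 (searchF 13 ps13) 6 2251800015037200 4431 8 = true := by
  decide +kernel

set_option maxRecDepth 100000 in
theorem tw_6_12_9 : enumC 13 (searchF 13 ps13) 6 2533274991747856 4687 9 = true := by
  decide +kernel

set_option maxRecDepth 100000 in
theorem tw_6_12_10 : enumC 13 (searchF 13 ps13) 6 2814749968458512 5199 10 = true := by
  decide +kernel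

set_option maxRecDepth 100000 in
theorem tw_6_12_11 : enumC 13 (searchF 13 ps13) 6 3096224945169168 6223 11 = true := by
  decide +kernel

end Cfsg.Agent.Helper9.AltGen
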