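import Mathlib
import Cfsg.Agent.Helper9.AltGen.Tw.Base

set_option autoImplicit false
set_option Elab.async false

/-!
A part of the enumeration on 13 points: the search holds at every cycle of the part.
-/

namespace Cfsg.Agent.Helper9.AltGen

open Cfsg.Agent.Helper9.T11

set_option maxRecDepth 100000 in
theorem tw_7_4_5 : enumC 13 (searchF 13 ps13) 6 1074098960 191 5 = true := by
  decide +kernel

set_option maxRecDepth 100000 in
theorem tw_7_4_6 : enumC 13 (searchF 13 ps13) 6 1074164496 223 6 = true := by
  decide +kernel

set_option maxRecDepth 100000 in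
theorem tw_7_4_8 : enumC 13 (searchF 13 ps13) 6 1074295568 415 8 = true := by
  decide +kernel

set_option maxRecDepth 100000 in
theorem tw_7_4_9 : enumC 13 (searchF 13 ps13) 6 1074361104 671 9 = true := by
  decide +kernel

set_option maxRecDepth 100000 in
theorem tw_7_4_10 : enumC 13 (searchF 13 ps13) 6 1074426640 1183 10 = true := by
  decide +kernel

set_option maxRecDepth 100000 in
theorem tw_7_4_11 : enumC 13 (searchF 13 ps13) 6 1074492176 2207 11 = true := by
  decide +kernel

set_option maxRecDepth 100000 in
theorem tw_7_4_12 : enumC 13 (searchF 13 ps13) 6 1074557712 4255 12 = true := by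
  decide +kernel

set_option maxRecDepth 100000 in
theorem tw_7_5_4 : enumC 13 (searchF 13 ps13) 6 1346401040 191 4 = true := by
  decide +kernel

set_option maxRecDepth 100000 in
theorem tw_7_5_6 : enumC 13 (searchF 13 ps13) 6 1348498192 239 6 = true := by
  decide +kernel

set_option maxRecDepth 100000 in
theorem tw_7_5_8 : enumC 13 (searchF 13 ps13) 6 1350595344 431 8 = true := by
  decide +kernel

set_option maxRecDepth 100000 in
theorem tw_7_5_9 : enumC 13 (searchF 13 ps13) 6 1351643920 687 9 = true := by
  decide +kernel

set_option maxRecDepth 100000 in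
theorem tw_7_5_10 : enumC 13 (searchF 13 ps13) 6 1352692496 1199 10 = true := by
  decide +kernel

set_option maxRecDepth 100000 in
theorem tw_7_5_11 : enumC 13 (searchF 13 ps13) 6 1353741072 2223 11 = true := by
  decide +kernel

set_option maxRecDepth 100000 in
theorem tw_7_5_12 : enumC 13 (searchF 13 ps13) 6 1354789648 4271 12 = true := by
  decide +kernel

set_option maxRecDepth 100000 in
theorem tw_7_6_4 : enumC 13 (searchF 13 ps13) 6 1677751056 223 4 = true := by
  decide +kernel

set_option maxRecDepth 100000 in
theorem tw_7_6_5 : enumC 13 (searchF 13 ps13) 6 1694528272 239 5 = true := by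
  decide +kernel

set_option maxRecDepth 100000 in
theorem tw_7_6_8 : enumC 13 (searchF 13 ps13) 6 1744859920 463 8 = true := by
  decide +kernel

set_option maxRecDepth 100000 in
theorem tw_7_6_9 : enumC 13 (searchF 13 ps13) 6 1761637136 719 9 = true := by
  decide +kernel

set_option maxRecDepth 100000 in
theorem tw_7_6_10 : enumC 13 (searchF 13 ps13) 6 1778414352 1231 10 = true := by
  decide +kernel

set_option maxRecDepth 100000 in
theorem tw_7_6_11 : enumC 13 (searchF 13 ps13) 6 1795191568 2255 11 = true := by
  decide +kernel

set_option maxRecDepth 100000 in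
theorem tw_7_6_12 : enumC 13 (searchF 13 ps13) 6 1811968784 4303 12 = true := by
  decide +kernel

end Cfsg.Agent.Helper9.AltGen
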