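import Mathlib
import Cfsg.Agent.Helper9.AltGen.Tw.Base

set_option autoImplicit false
set_option Elab.async false

/-!
A part of the enumeration on 13 points: the search holds at every cycle of the part.
-/

namespace Cfsg.Agent.Helper9.AltGen

open Cfsg.Agent.Helper9.T11

set_option maxRecDepth 100000 in
theorem tw_7_8_4 : enumC 13 (searchF 13 ps13) 6 19327382288 415 4 = true := by
  decide +kernel

set_option maxRecDepth 100000 in
theorem tw_7_8_5 : enumC 13 (searchF 13 ps13) 6 23622349584 431 5 = true := by
  decide +kernel

set_option maxRecDepth 100000 in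
theorem tw_7_8_6 : enumC 13 (searchF 13 ps13) 6 27917316880 463 6 = true := by
  decide +kernel

set_option maxRecDepth 100000 in
theorem tw_7_8_9 : enumC 13 (searchF 13 ps13) 6 40802218768 911 9 = true := by
  decide +kernel

set_option maxRecDepth 100000 in
theorem tw_7_8_10 : enumC 13 (searchF 13 ps13) 6 45097186064 1423 10 = true := by
  decide +kernel

set_option maxRecDepth 100000 in
theorem tw_7_8_11 : enumC 13 (searchF 13 ps13) 6 49392153360 2447 11 = true := by
  decide +kernel

set_option maxRecDepth 100000 in
theorem tw_7_8_12 : enumC 13 (searchF 13 ps13) 6 53687120656 4495 12 = true := by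
  decide +kernel

set_option maxRecDepth 100000 in
theorem tw_7_9_4 : enumC 13 (searchF 13 ps13) 6 277293855504 671 4 = true := by
  decide +kernel

set_option maxRecDepth 100000 in
theorem tw_7_9_5 : enumC 13 (searchF 13 ps13) 6 346013332240 687 5 = true := by
  decide +kernel

set_option maxRecDepth 100000 in
theorem tw_7_9_6 : enumC 13 (searchF 13 ps13) 6 414732808976 719 6 = true := by
  decide +kernel

set_option maxRecDepth 100000 in
theorem tw_7_9_8 : enumC 13 (searchF 13 ps13) 6 552171762448 911 8 = true := by
  decide +kernel

set_option maxRecDepth 100000 in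
theorem tw_7_9_10 : enumC 13 (searchF 13 ps13) 6 689610715920 1679 10 = true := by
  decide +kernel

set_option maxRecDepth 100000 in
theorem tw_7_9_11 : enumC 13 (searchF 13 ps13) 6 758330192656 2703 11 = true := by
  decide +kernel

set_option maxRecDepth 100000 in
theorem tw_7_9_12 : enumC 13 (searchF 13 ps13) 6 827049669392 4751 12 = true := by
  decide +kernel

set_option maxRecDepth 100000 in
theorem tw_7_10_4 : enumC 13 (searchF 13 ps13) 6 4400730895120 1183 4 = true := by
  decide +kernel

set_option maxRecDepth 100000 in
theorem tw_7_10_5 : enumC 13 (searchF 13 ps13) 6 5500242522896 1199 5 = true := by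
  decide +kernel

set_option maxRecDepth 100000 in
theorem tw_7_10_6 : enumC 13 (searchF 13 ps13) 6 6599754150672 1231 6 = true := by
  decide +kernel

set_option maxRecDepth 100000 in
theorem tw_7_10_8 : enumC 13 (searchF 13 ps13) 6 8798777406224 1423 8 = true := by
  decide +kernel

set_option maxRecDepth 100000 in
theorem tw_7_10_9 : enumC 13 (searchF 13 ps13) 6 9898289034000 1679 9 = true := by
  decide +kernel

set_option maxRecDepth 100000 in
theorem tw_7_10_11 : enumC 13 (searchF 13 ps13) 6 12097312289552 3215 11 = true := by
  decide +kernel

set_option maxRecDepth 100000 in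
theorem tw_7_10_12 : enumC 13 (searchF 13 ps13) 6 13196823917328 5263 12 = true := by
  decide +kernel

end Cfsg.Agent.Helper9.AltGen
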