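import Mathlib
import Cfsg.Agent.Helper9.AltGen.Tw.C13p0
import Cfsg.Agent.Helper9.AltGen.Tw.C13p1
import Cfsg.Agent.Helper9.AltGen.Tw.C13p2
import Cfsg.Agent.Helper9.AltGen.Tw.C13p3
import Cfsg.Agent.Helper9.AltGen.Tw.C13p4
import Cfsg.Agent.Helper9.AltGen.Tw.C13p5
import Cfsg.Agent.Helper9.AltGen.Tw.C13p6
import Cfsg.Agent.Helper9.AltGen.Tw.C13p7
import Cfsg.Agent.Helper9.AltGen.Tw.C13p8
import Cfsg.Agent.Helper9.AltGen.Tw.C13p9
import Cfsg.Agent.Helper9.AltGen.Tw.C13p10
import Cfsg.Agent.Helper9.AltGen.Tw.C13p11
import Cfsg.Agent.Helper9.AltGen.Tw.C13p12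
import Cfsg.Agent.Helper9.AltGen.Tw.C13p13
import Cfsg.Agent.Helper9.AltGen.Tw.C13p14
import Cfsg.Agent.Helper9.AltGen.Tw.C13p15
import Cfsg.Agent.Helper9.AltGen.Tw.C13p16
import Cfsg.Agent.Helper9.AltGen.Tw.C13p17
import Cfsg.Agent.Helper9.AltGen.Tw.C13p18
import Cfsg.Agent.Helper9.AltGen.Tw.C13p19
import Cfsg.Agent.Helper9.AltGen.Tw.C13p20
import Cfsg.Agent.Helper9.AltGen.Tw.C13p21
import Cfsg.Agent.Helper9.AltGen.Tw.C13p22
import Cfsg.Agent.Helper9.AltGen.Tw.C13p23

set_option autoImplicit false
set_option Elab.async false

/-!
The enumeration on 13 points, put together from its parts.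
-/

namespace Cfsg.Agent.Helper9.AltGen

open Cfsg.Agent.Helper9.T11

theorem tw_4_5 : enumC 13 (searchF 13 ps13) 7 344848 63 5 = true := by
  refine enumC_intro 13 (searchF 13 ps13) 6 344848 63 5 ?_
  intro v hv hb
  interval_cases v
  · exact absurd hb (by decide)
  · exact absurd hb (by decide)
  · exact absurd hb (by decide)
  · exact absurd hb (by decide)
  · exact absurd hb (by decide)
  · exact absurd hb (by decide)
  · exact tw_4_5_6
  · exact tw_4_5_7
  · exact tw_4_5_8
  · exact tw_4_5_9
  · exact tw_4_5_10
  · exact tw_4_5_11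
  · exact tw_4_5_12

theorem tw_4_6 : enumC 13 (searchF 13 ps13) 7 410384 95 6 = true := by
  refine enumC_intro 13 (searchF 13 ps13) 6 410384 95 6 ?_
  intro v hv hb
  interval_cases v
  · exact absurd hb (by decide)
  · exact absurd hb (by decide)
  · exact absurd hb (by decide)
  · exact absurd hb (by decide)
  · exact absurd hb (by decide)
  · exact tw_4_6_5
  · exact absurd hb (by decide)
  · exact tw_4_6_7
  · exact tw_4_6_8
  · exact tw_4_6_9
  · exact tw_4_6_10
  · exact tw_4_6_11
  · exact tw_4_6_12

theorem tw_4_7 : enumC 13 (searchF 13 ps13) 7 475920 159 7 = true := by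
  refine enumC_intro 13 (searchF 13 ps13) 6 475920 159 7 ?_
  intro v hv hb
  interval_cases v
  · exact absurd hb (by decide)
  · exact absurd hb (by decide)
  · exact absurd hb (by decide)
  · exact absurd hb (by decide)
  · exact absurd hb (by decide)
  · exact tw_4_7_5
  · exact tw_4_7_6
  · exact absurd hb (by decide)
  · exact tw_4_7_8
  · exact tw_4_7_9
  · exact tw_4_7_10
  · exact tw_4_7_11
  · exact tw_4_7_12

theorem tw_4_8 : enumC 13 (searchF 13 ps13) 7 541456 287 8 = true := by
  refine enumC_intro 13 (searchF 13 ps13) 6 541456 287 8 ?_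
  intro v hv hb
  interval_cases v
  · exact absurd hb (by decide)
  · exact absurd hb (by decide)
  · exact absurd hb (by decide)
  · exact absurd hb (by decide)
  · exact absurd hb (by decide)
  · exact tw_4_8_5
  · exact tw_4_8_6
  · exact tw_4_8_7
  · exact absurd hb (by decide)
  · exact tw_4_8_9
  · exact tw_4_8_10
  · exact tw_4_8_11
  · exact tw_4_8_12

theorem tw_4_9 : enumC 13 (searchF 13 ps13) 7 606992 543 9 = true := by
  refine enumC_intro 13 (searchF 13 ps13) 6 606992 543 9 ?_
  intro v hv hb
  interval_cases v
  · exact absurd hb (by decide)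
  · exact absurd hb (by decide)
  · exact absurd hb (by decide)
  · exact absurd hb (by decide)
  · exact absurd hb (by decide)
  · exact tw_4_9_5
  · exact tw_4_9_6
  · exact tw_4_9_7
  · exact tw_4_9_8
  · exact absurd hb (by decide)
  · exact tw_4_9_10
  · exact tw_4_9_11
  · exact tw_4_9_12

theorem tw_4_10 : enumC 13 (searchF 13 ps13) 7 672528 1055 10 = true := by
  refine enumC_intro 13 (searchF 13 ps13) 6 672528 1055 10 ?_
  intro v hv hb
  interval_cases v
  · exact absurd hb (by decide)
  · exact absurd hb (by decide)
  · exact absurd hb (by decide)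
  · exact absurd hb (by decide)
  · exact absurd hb (by decide)
  · exact tw_4_10_5
  · exact tw_4_10_6
  · exact tw_4_10_7
  · exact tw_4_10_8
  · exact tw_4_10_9
  · exact absurd hb (by decide)
  · exact tw_4_10_11
  · exact tw_4_10_12

theorem tw_4_11 : enumC 13 (searchF 13 ps13) 7 738064 2079 11 = true := by
  refine enumC_intro 13 (searchF 13 ps13) 6 738064 2079 11 ?_
  intro v hv hb
  interval_cases v
  · exact absurd hb (by decide)
  · exact absurd hb (by decide)
  · exact absurd hb (by decide)
  · exact absurd hb (by decide)
  · exact absurd hb (by decide)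
  · exact tw_4_11_5
  · exact tw_4_11_6
  · exact tw_4_11_7
  · exact tw_4_11_8
  · exact tw_4_11_9
  · exact tw_4_11_10
  · exact absurd hb (by decide)
  · exact tw_4_11_12

theorem tw_4_12 : enumC 13 (searchF 13 ps13) 7 803600 4127 12 = true := by
  refine enumC_intro 13 (searchF 13 ps13) 6 803600 4127 12 ?_
  intro v hv hb
  interval_cases v
  · exact absurd hb (by decide)
  · exact absurd hb (by decide)
  · exact absurd hb (by decide)
  · exact absurd hb (by decide)
  · exact absurd hb (by decide)
  · exact tw_4_12_5
  · exact tw_4_12_6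
  · exact tw_4_12_7
  · exact tw_4_12_8
  · exact tw_4_12_9
  · exact tw_4_12_10
  · exact tw_4_12_11
  · exact absurd hb (by decide)

theorem tw_5_4 : enumC 13 (searchF 13 ps13) 7 4215568 63 4 = true := by
  refine enumC_intro 13 (searchF 13 ps13) 6 4215568 63 4 ?_
  intro v hv hb
  interval_cases v
  · exact absurd hb (by decide)
  · exact absurd hb (by decide)
  · exact absurd hb (by decide)
  · exact absurd hb (by decide)
  · exact absurd hb (by decide)
  · exact absurd hb (by decide)
  · exact tw_5_4_6
  · exact tw_5_4_7
  · exact tw_5_4_8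
  · exact tw_5_4_9
  · exact tw_5_4_10
  · exact tw_5_4_11
  · exact tw_5_4_12

theorem tw_5_6 : enumC 13 (searchF 13 ps13) 7 6312720 111 6 = true := by
  refine enumC_intro 13 (searchF 13 ps13) 6 6312720 111 6 ?_
  intro v hv hb
  interval_cases v
  · exact absurd hb (by decide)
  · exact absurd hb (by decide)
  · exact absurd hb (by decide)
  · exact absurd hb (by decide)
  · exact tw_5_6_4
  · exact absurd hb (by decide)
  · exact absurd hb (by decide)
  · exact tw_5_6_7
  · exact tw_5_6_8
  · exact tw_5_6_9
  · exact tw_5_6_10
  · exact tw_5_6_11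
  · exact tw_5_6_12

theorem tw_5_7 : enumC 13 (searchF 13 ps13) 7 7361296 175 7 = true := by
  refine enumC_intro 13 (searchF 13 ps13) 6 7361296 175 7 ?_
  intro v hv hb
  interval_cases v
  · exact absurd hb (by decide)
  · exact absurd hb (by decide)
  · exact absurd hb (by decide)
  · exact absurd hb (by decide)
  · exact tw_5_7_4
  · exact absurd hb (by decide)
  · exact tw_5_7_6
  · exact absurd hb (by decide)
  · exact tw_5_7_8
  · exact tw_5_7_9
  · exact tw_5_7_10
  · exact tw_5_7_11
  · exact tw_5_7_12

theorem tw_5_8 : enumC 13 (searchF 13 ps13) 7 8409872 303 8 = true := by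
  refine enumC_intro 13 (searchF 13 ps13) 6 8409872 303 8 ?_
  intro v hv hb
  interval_cases v
  · exact absurd hb (by decide)
  · exact absurd hb (by decide)
  · exact absurd hb (by decide)
  · exact absurd hb (by decide)
  · exact tw_5_8_4
  · exact absurd hb (by decide)
  · exact tw_5_8_6
  · exact tw_5_8_7
  · exact absurd hb (by decide)
  · exact tw_5_8_9
  · exact tw_5_8_10
  · exact tw_5_8_11
  · exact tw_5_8_12

theorem tw_5_9 : enumC 13 (searchF 13 ps13) 7 9458448 559 9 = true := by
  refine enumC_intro 13 (searchF 13 ps13) 6 9458448 559 9 ?_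
  intro v hv hb
  interval_cases v
  · exact absurd hb (by decide)
  · exact absurd hb (by decide)
  · exact absurd hb (by decide)
  · exact absurd hb (by decide)
  · exact tw_5_9_4
  · exact absurd hb (by decide)
  · exact tw_5_9_6
  · exact tw_5_9_7
  · exact tw_5_9_8
  · exact absurd hb (by decide)
  · exact tw_5_9_10
  · exact tw_5_9_11
  · exact tw_5_9_12

theorem tw_5_10 : enumC 13 (searchF 13 ps13) 7 10507024 1071 10 = true := by
  refine enumC_intro 13 (searchF 13 ps13) 6 10507024 1071 10 ?_
  intro v hv hb
  interval_cases v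
  · exact absurd hb (by decide)
  · exact absurd hb (by decide)
  · exact absurd hb (by decide)
  · exact absurd hb (by decide)
  · exact tw_5_10_4
  · exact absurd hb (by decide)
  · exact tw_5_10_6
  · exact tw_5_10_7
  · exact tw_5_10_8
  · exact tw_5_10_9
  · exact absurd hb (by decide)
  · exact tw_5_10_11
  · exact tw_5_10_12

theorem tw_5_11 : enumC 13 (searchF 13 ps13) 7 11555600 2095 11 = true := by
  refine enumC_intro 13 (searchF 13 ps13) 6 11555600 2095 11 ?_
  intro v hv hb
  interval_cases v
  · exact absurd hb (by decide)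
  · exact absurd hb (by decide)
  · exact absurd hb (by decide)
  · exact absurd hb (by decide)
  · exact tw_5_11_4
  · exact absurd hb (by decide)
  · exact tw_5_11_6
  · exact tw_5_11_7
  · exact tw_5_11_8
  · exact tw_5_11_9
  · exact tw_5_11_10
  · exact absurd hb (by decide)
  · exact tw_5_11_12

theorem tw_5_12 : enumC 13 (searchF 13 ps13) 7 12604176 4143 12 = true := by
  refine enumC_intro 13 (searchF 13 ps13) 6 12604176 4143 12 ?_
  intro v hv hb
  interval_cases v
  · exact absurd hb (by decide)
  · exact absurd hb (by decide)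
  · exact absurd hb (by decide)
  · exact absurd hb (by decide)
  · exact tw_5_12_4
  · exact absurd hb (by decide)
  · exact tw_5_12_6
  · exact tw_5_12_7
  · exact tw_5_12_8
  · exact tw_5_12_9
  · exact tw_5_12_10
  · exact tw_5_12_11
  · exact absurd hb (by decide)

theorem tw_6_4 : enumC 13 (searchF 13 ps13) 7 67134224 95 4 = true := by
  refine enumC_intro 13 (searchF 13 ps13) 6 67134224 95 4 ?_
  intro v hv hb
  interval_cases v
  · exact absurd hb (by decide)
  · exact absurd hb (by decide)
  · exact absurd hb (by decide)
  · exact absurd hb (by decide)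
  · exact absurd hb (by decide)
  · exact tw_6_4_5
  · exact absurd hb (by decide)
  · exact tw_6_4_7
  · exact tw_6_4_8
  · exact tw_6_4_9
  · exact tw_6_4_10
  · exact tw_6_4_11
  · exact tw_6_4_12

theorem tw_6_5 : enumC 13 (searchF 13 ps13) 7 83911440 111 5 = true := by
  refine enumC_intro 13 (searchF 13 ps13) 6 83911440 111 5 ?_
  intro v hv hb
  interval_cases v
  · exact absurd hb (by decide)
  · exact absurd hb (by decide)
  · exact absurd hb (by decide)
  · exact absurd hb (by decide)
  · exact tw_6_5_4
  · exact absurd hb (by decide)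
  · exact absurd hb (by decide)
  · exact tw_6_5_7
  · exact tw_6_5_8
  · exact tw_6_5_9
  · exact tw_6_5_10
  · exact tw_6_5_11
  · exact tw_6_5_12

theorem tw_6_7 : enumC 13 (searchF 13 ps13) 7 117465872 207 7 = true := by
  refine enumC_intro 13 (searchF 13 ps13) 6 117465872 207 7 ?_
  intro v hv hb
  interval_cases v
  · exact absurd hb (by decide)
  · exact absurd hb (by decide)
  · exact absurd hb (by decide)
  · exact absurd hb (by decide)
  · exact tw_6_7_4
  · exact tw_6_7_5
  · exact absurd hb (by decide)
  · exact absurd hb (by decide)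
  · exact tw_6_7_8
  · exact tw_6_7_9
  · exact tw_6_7_10
  · exact tw_6_7_11
  · exact tw_6_7_12

theorem tw_6_8 : enumC 13 (searchF 13 ps13) 7 134243088 335 8 = true := by
  refine enumC_intro 13 (searchF 13 ps13) 6 134243088 335 8 ?_
  intro v hv hb
  interval_cases v
  · exact absurd hb (by decide)
  · exact absurd hb (by decide)
  · exact absurd hb (by decide)
  · exact absurd hb (by decide)
  · exact tw_6_8_4
  · exact tw_6_8_5
  · exact absurd hb (by decide)
  · exact tw_6_8_7
  · exact absurd hb (by decide)
  · exact tw_6_8_9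
  · exact tw_6_8_10
  · exact tw_6_8_11
  · exact tw_6_8_12

theorem tw_6_9 : enumC 13 (searchF 13 ps13) 7 151020304 591 9 = true := by
  refine enumC_intro 13 (searchF 13 ps13) 6 151020304 591 9 ?_
  intro v hv hb
  interval_cases v
  · exact absurd hb (by decide)
  · exact absurd hb (by decide)
  · exact absurd hb (by decide)
  · exact absurd hb (by decide)
  · exact tw_6_9_4
  · exact tw_6_9_5
  · exact absurd hb (by decide)
  · exact tw_6_9_7
  · exact tw_6_9_8
  · exact absurd hb (by decide)
  · exact tw_6_9_10
  · exact tw_6_9_11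
  · exact tw_6_9_12

theorem tw_6_10 : enumC 13 (searchF 13 ps13) 7 167797520 1103 10 = true := by
  refine enumC_intro 13 (searchF 13 ps13) 6 167797520 1103 10 ?_
  intro v hv hb
  interval_cases v
  · exact absurd hb (by decide)
  · exact absurd hb (by decide)
  · exact absurd hb (by decide)
  · exact absurd hb (by decide)
  · exact tw_6_10_4
  · exact tw_6_10_5
  · exact absurd hb (by decide)
  · exact tw_6_10_7
  · exact tw_6_10_8
  · exact tw_6_10_9
  · exact absurd hb (by decide)
  · exact tw_6_10_11
  · exact tw_6_10_12

theorem tw_6_11 : enumC 13 (searchF 13 ps13) 7 184574736 2127 11 = true := by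
  refine enumC_intro 13 (searchF 13 ps13) 6 184574736 2127 11 ?_
  intro v hv hb
  interval_cases v
  · exact absurd hb (by decide)
  · exact absurd hb (by decide)
  · exact absurd hb (by decide)
  · exact absurd hb (by decide)
  · exact tw_6_11_4
  · exact tw_6_11_5
  · exact absurd hb (by decide)
  · exact tw_6_11_7
  · exact tw_6_11_8
  · exact tw_6_11_9
  · exact tw_6_11_10
  · exact absurd hb (by decide)
  · exact tw_6_11_12

theorem tw_6_12 : enumC 13 (searchF 13 ps13) 7 201351952 4175 12 = true := by
  refine enumC_intro 13 (searchF 13 ps13) 6 201351952 4175 12 ?_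
  intro v hv hb
  interval_cases v
  · exact absurd hb (by decide)
  · exact absurd hb (by decide)
  · exact absurd hb (by decide)
  · exact absurd hb (by decide)
  · exact tw_6_12_4
  · exact tw_6_12_5
  · exact absurd hb (by decide)
  · exact tw_6_12_7
  · exact tw_6_12_8
  · exact tw_6_12_9
  · exact tw_6_12_10
  · exact tw_6_12_11
  · exact absurd hb (by decide)

theorem tw_7_4 : enumC 13 (searchF 13 ps13) 7 1073771280 159 4 = true := by
  refine enumC_intro 13 (searchF 13 ps13) 6 1073771280 159 4 ?_
  intro v hv hb
  interval_cases v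
  · exact absurd hb (by decide)
  · exact absurd hb (by decide)
  · exact absurd hb (by decide)
  · exact absurd hb (by decide)
  · exact absurd hb (by decide)
  · exact tw_7_4_5
  · exact tw_7_4_6
  · exact absurd hb (by decide)
  · exact tw_7_4_8
  · exact tw_7_4_9
  · exact tw_7_4_10
  · exact tw_7_4_11
  · exact tw_7_4_12

theorem tw_7_5 : enumC 13 (searchF 13 ps13) 7 1342206736 175 5 = true := by
  refine enumC_intro 13 (searchF 13 ps13) 6 1342206736 175 5 ?_
  intro v hv hb
  interval_cases v
  · exact absurd hb (by decide)
  · exact absurd hb (by decide)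
  · exact absurd hb (by decide)
  · exact absurd hb (by decide)
  · exact tw_7_5_4
  · exact absurd hb (by decide)
  · exact tw_7_5_6
  · exact absurd hb (by decide)
  · exact tw_7_5_8
  · exact tw_7_5_9
  · exact tw_7_5_10
  · exact tw_7_5_11
  · exact tw_7_5_12

theorem tw_7_6 : enumC 13 (searchF 13 ps13) 7 1610642192 207 6 = true := by
  refine enumC_intro 13 (searchF 13 ps13) 6 1610642192 207 6 ?_
  intro v hv hb
  interval_cases v
  · exact absurd hb (by decide)
  · exact absurd hb (by decide)
  · exact absurd hb (by decide)
  · exact absurd hb (by decide)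
  · exact tw_7_6_4
  · exact tw_7_6_5
  · exact absurd hb (by decide)
  · exact absurd hb (by decide)
  · exact tw_7_6_8
  · exact tw_7_6_9
  · exact tw_7_6_10
  · exact tw_7_6_11
  · exact tw_7_6_12

theorem tw_7_8 : enumC 13 (searchF 13 ps13) 7 2147513104 399 8 = true := by
  refine enumC_intro 13 (searchF 13 ps13) 6 2147513104 399 8 ?_
  intro v hv hb
  interval_cases v
  · exact absurd hb (by decide)
  · exact absurd hb (by decide)
  · exact absurd hb (by decide)
  · exact absurd hb (by decide)
  · exact tw_7_8_4
  · exact tw_7_8_5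
  · exact tw_7_8_6
  · exact absurd hb (by decide)
  · exact absurd hb (by decide)
  · exact tw_7_8_9
  · exact tw_7_8_10
  · exact tw_7_8_11
  · exact tw_7_8_12

theorem tw_7_9 : enumC 13 (searchF 13 ps13) 7 2415948560 655 9 = true := by
  refine enumC_intro 13 (searchF 13 ps13) 6 2415948560 655 9 ?_
  intro v hv hb
  interval_cases v
  · exact absurd hb (by decide)
  · exact absurd hb (by decide)
  · exact absurd hb (by decide)
  · exact absurd hb (by decide)
  · exact tw_7_9_4
  · exact tw_7_9_5
  · exact tw_7_9_6
  · exact absurd hb (by decide)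
  · exact tw_7_9_8
  · exact absurd hb (by decide)
  · exact tw_7_9_10
  · exact tw_7_9_11
  · exact tw_7_9_12

theorem tw_7_10 : enumC 13 (searchF 13 ps13) 7 2684384016 1167 10 = true := by
  refine enumC_intro 13 (searchF 13 ps13) 6 2684384016 1167 10 ?_
  intro v hv hb
  interval_cases v
  · exact absurd hb (by decide)
  · exact absurd hb (by decide)
  · exact absurd hb (by decide)
  · exact absurd hb (by decide)
  · exact tw_7_10_4
  · exact tw_7_10_5
  · exact tw_7_10_6
  · exact absurd hb (by decide)
  · exact tw_7_10_8
  · exact tw_7_10_9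
  · exact absurd hb (by decide)
  · exact tw_7_10_11
  · exact tw_7_10_12

theorem tw_7_11 : enumC 13 (searchF 13 ps13) 7 2952819472 2191 11 = true := by
  refine enumC_intro 13 (searchF 13 ps13) 6 2952819472 2191 11 ?_
  intro v hv hb
  interval_cases v
  · exact absurd hb (by decide)
  · exact absurd hb (by decide)
  · exact absurd hb (by decide)
  · exact absurd hb (by decide)
  · exact tw_7_11_4
  · exact tw_7_11_5
  · exact tw_7_11_6
  · exact absurd hb (by decide)
  · exact tw_7_11_8
  · exact tw_7_11_9
  · exact tw_7_11_10
  · exact absurd hb (by decide)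
  · exact tw_7_11_12

theorem tw_7_12 : enumC 13 (searchF 13 ps13) 7 3221254928 4239 12 = true := by
  refine enumC_intro 13 (searchF 13 ps13) 6 3221254928 4239 12 ?_
  intro v hv hb
  interval_cases v
  · exact absurd hb (by decide)
  · exact absurd hb (by decide)
  · exact absurd hb (by decide)
  · exact absurd hb (by decide)
  · exact tw_7_12_4
  · exact tw_7_12_5
  · exact tw_7_12_6
  · exact absurd hb (by decide)
  · exact tw_7_12_8
  · exact tw_7_12_9
  · exact tw_7_12_10
  · exact tw_7_12_11
  · exact absurd hb (by decide)

theorem tw_8_4 : enumC 13 (searchF 13 ps13) 7 17179902736 287 4 = true := by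
  refine enumC_intro 13 (searchF 13 ps13) 6 17179902736 287 4 ?_
  intro v hv hb
  interval_cases v
  · exact absurd hb (by decide)
  · exact absurd hb (by decide)
  · exact absurd hb (by decide)
  · exact absurd hb (by decide)
  · exact absurd hb (by decide)
  · exact tw_8_4_5
  · exact tw_8_4_6
  · exact tw_8_4_7
  · exact absurd hb (by decide)
  · exact tw_8_4_9
  · exact tw_8_4_10
  · exact tw_8_4_11
  · exact tw_8_4_12

theorem tw_8_5 : enumC 13 (searchF 13 ps13) 7 21474870032 303 5 = true := by
  refine enumC_intro 13 (searchF 13 ps13) 6 21474870032 303 5 ?_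
  intro v hv hb
  interval_cases v
  · exact absurd hb (by decide)
  · exact absurd hb (by decide)
  · exact absurd hb (by decide)
  · exact absurd hb (by decide)
  · exact tw_8_5_4
  · exact absurd hb (by decide)
  · exact tw_8_5_6
  · exact tw_8_5_7
  · exact absurd hb (by decide)
  · exact tw_8_5_9
  · exact tw_8_5_10
  · exact tw_8_5_11
  · exact tw_8_5_12

theorem tw_8_6 : enumC 13 (searchF 13 ps13) 7 25769837328 335 6 = true := by
  refine enumC_intro 13 (searchF 13 ps13) 6 25769837328 335 6 ?_
  intro v hv hb
  interval_cases v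
  · exact absurd hb (by decide)
  · exact absurd hb (by decide)
  · exact absurd hb (by decide)
  · exact absurd hb (by decide)
  · exact tw_8_6_4
  · exact tw_8_6_5
  · exact absurd hb (by decide)
  · exact tw_8_6_7
  · exact absurd hb (by decide)
  · exact tw_8_6_9
  · exact tw_8_6_10
  · exact tw_8_6_11
  · exact tw_8_6_12

theorem tw_8_7 : enumC 13 (searchF 13 ps13) 7 30064804624 399 7 = true := by
  refine enumC_intro 13 (searchF 13 ps13) 6 30064804624 399 7 ?_
  intro v hv hb
  interval_cases v
  · exact absurd hb (by decide)
  · exact absurd hb (by decide)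
  · exact absurd hb (by decide)
  · exact absurd hb (by decide)
  · exact tw_8_7_4
  · exact tw_8_7_5
  · exact tw_8_7_6
  · exact absurd hb (by decide)
  · exact absurd hb (by decide)
  · exact tw_8_7_9
  · exact tw_8_7_10
  · exact tw_8_7_11
  · exact tw_8_7_12

theorem tw_8_9 : enumC 13 (searchF 13 ps13) 7 38654739216 783 9 = true := by
  refine enumC_intro 13 (searchF 13 ps13) 6 38654739216 783 9 ?_
  intro v hv hb
  interval_cases v
  · exact absurd hb (by decide)
  · exact absurd hb (by decide)
  · exact absurd hb (by decide)
  · exact absurd hb (by decide)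
  · exact tw_8_9_4
  · exact tw_8_9_5
  · exact tw_8_9_6
  · exact tw_8_9_7
  · exact absurd hb (by decide)
  · exact absurd hb (by decide)
  · exact tw_8_9_10
  · exact tw_8_9_11
  · exact tw_8_9_12

theorem tw_8_10 : enumC 13 (searchF 13 ps13) 7 42949706512 1295 10 = true := by
  refine enumC_intro 13 (searchF 13 ps13) 6 42949706512 1295 10 ?_
  intro v hv hb
  interval_cases v
  · exact absurd hb (by decide)
  · exact absurd hb (by decide)
  · exact absurd hb (by decide)
  · exact absurd hb (by decide)
  · exact tw_8_10_4
  · exact tw_8_10_5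
  · exact tw_8_10_6
  · exact tw_8_10_7
  · exact absurd hb (by decide)
  · exact tw_8_10_9
  · exact absurd hb (by decide)
  · exact tw_8_10_11
  · exact tw_8_10_12

theorem tw_8_11 : enumC 13 (searchF 13 ps13) 7 47244673808 2319 11 = true := by
  refine enumC_intro 13 (searchF 13 ps13) 6 47244673808 2319 11 ?_
  intro v hv hb
  interval_cases v
  · exact absurd hb (by decide)
  · exact absurd hb (by decide)
  · exact absurd hb (by decide)
  · exact absurd hb (by decide)
  · exact tw_8_11_4
  · exact tw_8_11_5
  · exact tw_8_11_6
  · exact tw_8_11_7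
  · exact absurd hb (by decide)
  · exact tw_8_11_9
  · exact tw_8_11_10
  · exact absurd hb (by decide)
  · exact tw_8_11_12

theorem tw_8_12 : enumC 13 (searchF 13 ps13) 7 51539641104 4367 12 = true := by
  refine enumC_intro 13 (searchF 13 ps13) 6 51539641104 4367 12 ?_
  intro v hv hb
  interval_cases v
  · exact absurd hb (by decide)
  · exact absurd hb (by decide)
  · exact absurd hb (by decide)
  · exact absurd hb (by decide)
  · exact tw_8_12_4
  · exact tw_8_12_5
  · exact tw_8_12_6
  · exact tw_8_12_7
  · exact absurd hb (by decide)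
  · exact tw_8_12_9
  · exact tw_8_12_10
  · exact tw_8_12_11
  · exact absurd hb (by decide)

theorem tw_9_4 : enumC 13 (searchF 13 ps13) 7 274877944592 543 4 = true := by
  refine enumC_intro 13 (searchF 13 ps13) 6 274877944592 543 4 ?_
  intro v hv hb
  interval_cases v
  · exact absurd hb (by decide)
  · exact absurd hb (by decide)
  · exact absurd hb (by decide)
  · exact absurd hb (by decide)
  · exact absurd hb (by decide)
  · exact tw_9_4_5
  · exact tw_9_4_6
  · exact tw_9_4_7
  · exact tw_9_4_8
  · exact absurd hb (by decide)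
  · exact tw_9_4_10
  · exact tw_9_4_11
  · exact tw_9_4_12

theorem tw_9_5 : enumC 13 (searchF 13 ps13) 7 343597421328 559 5 = true := by
  refine enumC_intro 13 (searchF 13 ps13) 6 343597421328 559 5 ?_
  intro v hv hb
  interval_cases v
  · exact absurd hb (by decide)
  · exact absurd hb (by decide)
  · exact absurd hb (by decide)
  · exact absurd hb (by decide)
  · exact tw_9_5_4
  · exact absurd hb (by decide)
  · exact tw_9_5_6
  · exact tw_9_5_7
  · exact tw_9_5_8
  · exact absurd hb (by decide)
  · exact tw_9_5_10
  · exact tw_9_5_11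
  · exact tw_9_5_12

theorem tw_9_6 : enumC 13 (searchF 13 ps13) 7 412316898064 591 6 = true := by
  refine enumC_intro 13 (searchF 13 ps13) 6 412316898064 591 6 ?_
  intro v hv hb
  interval_cases v
  · exact absurd hb (by decide)
  · exact absurd hb (by decide)
  · exact absurd hb (by decide)
  · exact absurd hb (by decide)
  · exact tw_9_6_4
  · exact tw_9_6_5
  · exact absurd hb (by decide)
  · exact tw_9_6_7
  · exact tw_9_6_8
  · exact absurd hb (by decide)
  · exact tw_9_6_10
  · exact tw_9_6_11
  · exact tw_9_6_12

theorem tw_9_7 : enumC 13 (searchF 13 ps13) 7 481036374800 655 7 = true := by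
  refine enumC_intro 13 (searchF 13 ps13) 6 481036374800 655 7 ?_
  intro v hv hb
  interval_cases v
  · exact absurd hb (by decide)
  · exact absurd hb (by decide)
  · exact absurd hb (by decide)
  · exact absurd hb (by decide)
  · exact tw_9_7_4
  · exact tw_9_7_5
  · exact tw_9_7_6
  · exact absurd hb (by decide)
  · exact tw_9_7_8
  · exact absurd hb (by decide)
  · exact tw_9_7_10
  · exact tw_9_7_11
  · exact tw_9_7_12

theorem tw_9_8 : enumC 13 (searchF 13 ps13) 7 549755851536 783 8 = true := by
  refine enumC_intro 13 (searchF 13 ps13) 6 549755851536 783 8 ?_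
  intro v hv hb
  interval_cases v
  · exact absurd hb (by decide)
  · exact absurd hb (by decide)
  · exact absurd hb (by decide)
  · exact absurd hb (by decide)
  · exact tw_9_8_4
  · exact tw_9_8_5
  · exact tw_9_8_6
  · exact tw_9_8_7
  · exact absurd hb (by decide)
  · exact absurd hb (by decide)
  · exact tw_9_8_10
  · exact tw_9_8_11
  · exact tw_9_8_12

theorem tw_9_10 : enumC 13 (searchF 13 ps13) 7 687194805008 1551 10 = true := by
  refine enumC_intro 13 (searchF 13 ps13) 6 687194805008 1551 10 ?_
  intro v hv hb
  interval_cases v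
  · exact absurd hb (by decide)
  · exact absurd hb (by decide)
  · exact absurd hb (by decide)
  · exact absurd hb (by decide)
  · exact tw_9_10_4
  · exact tw_9_10_5
  · exact tw_9_10_6
  · exact tw_9_10_7
  · exact tw_9_10_8
  · exact absurd hb (by decide)
  · exact absurd hb (by decide)
  · exact tw_9_10_11
  · exact tw_9_10_12

theorem tw_9_11 : enumC 13 (searchF 13 ps13) 7 755914281744 2575 11 = true := by
  refine enumC_intro 13 (searchF 13 ps13) 6 755914281744 2575 11 ?_
  intro v hv hb
  interval_cases v
  · exact absurd hb (by decide)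
  · exact absurd hb (by decide)
  · exact absurd hb (by decide)
  · exact absurd hb (by decide)
  · exact tw_9_11_4
  · exact tw_9_11_5
  · exact tw_9_11_6
  · exact tw_9_11_7
  · exact tw_9_11_8
  · exact absurd hb (by decide)
  · exact tw_9_11_10
  · exact absurd hb (by decide)
  · exact tw_9_11_12

theorem tw_9_12 : enumC 13 (searchF 13 ps13) 7 824633758480 4623 12 = true := by
  refine enumC_intro 13 (searchF 13 ps13) 6 824633758480 4623 12 ?_
  intro v hv hb
  interval_cases v
  · exact absurd hb (by decide)
  · exact absurd hb (by decide)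
  · exact absurd hb (by decide)
  · exact absurd hb (by decide)
  · exact tw_9_12_4
  · exact tw_9_12_5
  · exact tw_9_12_6
  · exact tw_9_12_7
  · exact tw_9_12_8
  · exact absurd hb (by decide)
  · exact tw_9_12_10
  · exact tw_9_12_11
  · exact absurd hb (by decide)

theorem tw_10_4 : enumC 13 (searchF 13 ps13) 7 4398046552848 1055 4 = true := by
  refine enumC_intro 13 (searchF 13 ps13) 6 4398046552848 1055 4 ?_
  intro v hv hb
  interval_cases v
  · exact absurd hb (by decide)
  · exact absurd hb (by decide)
  · exact absurd hb (by decide)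
  · exact absurd hb (by decide)
  · exact absurd hb (by decide)
  · exact tw_10_4_5
  · exact tw_10_4_6
  · exact tw_10_4_7
  · exact tw_10_4_8
  · exact tw_10_4_9
  · exact absurd hb (by decide)
  · exact tw_10_4_11
  · exact tw_10_4_12

theorem tw_10_5 : enumC 13 (searchF 13 ps13) 7 5497558180624 1071 5 = true := by
  refine enumC_intro 13 (searchF 13 ps13) 6 5497558180624 1071 5 ?_
  intro v hv hb
  interval_cases v
  · exact absurd hb (by decide)
  · exact absurd hb (by decide)
  · exact absurd hb (by decide)
  · exact absurd hb (by decide)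
  · exact tw_10_5_4
  · exact absurd hb (by decide)
  · exact tw_10_5_6
  · exact tw_10_5_7
  · exact tw_10_5_8
  · exact tw_10_5_9
  · exact absurd hb (by decide)
  · exact tw_10_5_11
  · exact tw_10_5_12

theorem tw_10_6 : enumC 13 (searchF 13 ps13) 7 6597069808400 1103 6 = true := by
  refine enumC_intro 13 (searchF 13 ps13) 6 6597069808400 1103 6 ?_
  intro v hv hb
  interval_cases v
  · exact absurd hb (by decide)
  · exact absurd hb (by decide)
  · exact absurd hb (by decide)
  · exact absurd hb (by decide)
  · exact tw_10_6_4
  · exact tw_10_6_5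
  · exact absurd hb (by decide)
  · exact tw_10_6_7
  · exact tw_10_6_8
  · exact tw_10_6_9
  · exact absurd hb (by decide)
  · exact tw_10_6_11
  · exact tw_10_6_12

theorem tw_10_7 : enumC 13 (searchF 13 ps13) 7 7696581436176 1167 7 = true := by
  refine enumC_intro 13 (searchF 13 ps13) 6 7696581436176 1167 7 ?_
  intro v hv hb
  interval_cases v
  · exact absurd hb (by decide)
  · exact absurd hb (by decide)
  · exact absurd hb (by decide)
  · exact absurd hb (by decide)
  · exact tw_10_7_4
  · exact tw_10_7_5
  · exact tw_10_7_6
  · exact absurd hb (by decide)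
  · exact tw_10_7_8
  · exact tw_10_7_9
  · exact absurd hb (by decide)
  · exact tw_10_7_11
  · exact tw_10_7_12

theorem tw_10_8 : enumC 13 (searchF 13 ps13) 7 8796093063952 1295 8 = true := by
  refine enumC_intro 13 (searchF 13 ps13) 6 8796093063952 1295 8 ?_
  intro v hv hb
  interval_cases v
  · exact absurd hb (by decide)
  · exact absurd hb (by decide)
  · exact absurd hb (by decide)
  · exact absurd hb (by decide)
  · exact tw_10_8_4
  · exact tw_10_8_5
  · exact tw_10_8_6
  · exact tw_10_8_7
  · exact absurd hb (by decide)
  · exact tw_10_8_9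
  · exact absurd hb (by decide)
  · exact tw_10_8_11
  · exact tw_10_8_12

theorem tw_10_9 : enumC 13 (searchF 13 ps13) 7 9895604691728 1551 9 = true := by
  refine enumC_intro 13 (searchF 13 ps13) 6 9895604691728 1551 9 ?_
  intro v hv hb
  interval_cases v
  · exact absurd hb (by decide)
  · exact absurd hb (by decide)
  · exact absurd hb (by decide)
  · exact absurd hb (by decide)
  · exact tw_10_9_4
  · exact tw_10_9_5
  · exact tw_10_9_6
  · exact tw_10_9_7
  · exact tw_10_9_8
  · exact absurd hb (by decide)
  · exact absurd hb (by decide)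
  · exact tw_10_9_11
  · exact tw_10_9_12

theorem tw_10_11 : enumC 13 (searchF 13 ps13) 7 12094627947280 3087 11 = true := by
  refine enumC_intro 13 (searchF 13 ps13) 6 12094627947280 3087 11 ?_
  intro v hv hb
  interval_cases v
  · exact absurd hb (by decide)
  · exact absurd hb (by decide)
  · exact absurd hb (by decide)
  · exact absurd hb (by decide)
  · exact tw_10_11_4
  · exact tw_10_11_5
  · exact tw_10_11_6
  · exact tw_10_11_7
  · exact tw_10_11_8
  · exact tw_10_11_9
  · exact absurd hb (by decide)
  · exact absurd hb (by decide)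
  · exact tw_10_11_12

theorem tw_10_12 : enumC 13 (searchF 13 ps13) 7 13194139575056 5135 12 = true := by
  refine enumC_intro 13 (searchF 13 ps13) 6 13194139575056 5135 12 ?_
  intro v hv hb
  interval_cases v
  · exact absurd hb (by decide)
  · exact absurd hb (by decide)
  · exact absurd hb (by decide)
  · exact absurd hb (by decide)
  · exact tw_10_12_4
  · exact tw_10_12_5
  · exact tw_10_12_6
  · exact tw_10_12_7
  · exact tw_10_12_8
  · exact tw_10_12_9
  · exact absurd hb (by decide)
  · exact tw_10_12_11
  · exact absurd hb (by decide)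

theorem tw_11_4 : enumC 13 (searchF 13 ps13) 7 70368744223504 2079 4 = true := by
  refine enumC_intro 13 (searchF 13 ps13) 6 70368744223504 2079 4 ?_
  intro v hv hb
  interval_cases v
  · exact absurd hb (by decide)
  · exact absurd hb (by decide)
  · exact absurd hb (by decide)
  · exact absurd hb (by decide)
  · exact absurd hb (by decide)
  · exact tw_11_4_5
  · exact tw_11_4_6
  · exact tw_11_4_7
  · exact tw_11_4_8
  · exact tw_11_4_9
  · exact tw_11_4_10
  · exact absurd hb (by decide)
  · exact tw_11_4_12

theorem tw_11_5 : enumC 13 (searchF 13 ps13) 7 87960930267920 2095 5 = true := by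
  refine enumC_intro 13 (searchF 13 ps13) 6 87960930267920 2095 5 ?_
  intro v hv hb
  interval_cases v
  · exact absurd hb (by decide)
  · exact absurd hb (by decide)
  · exact absurd hb (by decide)
  · exact absurd hb (by decide)
  · exact tw_11_5_4
  · exact absurd hb (by decide)
  · exact tw_11_5_6
  · exact tw_11_5_7
  · exact tw_11_5_8
  · exact tw_11_5_9
  · exact tw_11_5_10
  · exact absurd hb (by decide)
  · exact tw_11_5_12

theorem tw_11_6 : enumC 13 (searchF 13 ps13) 7 105553116312336 2127 6 = true := by
  refine enumC_intro 13 (searchF 13 ps13) 6 105553116312336 2127 6 ?_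
  intro v hv hb
  interval_cases v
  · exact absurd hb (by decide)
  · exact absurd hb (by decide)
  · exact absurd hb (by decide)
  · exact absurd hb (by decide)
  · exact tw_11_6_4
  · exact tw_11_6_5
  · exact absurd hb (by decide)
  · exact tw_11_6_7
  · exact tw_11_6_8
  · exact tw_11_6_9
  · exact tw_11_6_10
  · exact absurd hb (by decide)
  · exact tw_11_6_12

theorem tw_11_7 : enumC 13 (searchF 13 ps13) 7 123145302356752 2191 7 = true := by
  refine enumC_intro 13 (searchF 13 ps13) 6 123145302356752 2191 7 ?_
  intro v hv hb
  interval_cases v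
  · exact absurd hb (by decide)
  · exact absurd hb (by decide)
  · exact absurd hb (by decide)
  · exact absurd hb (by decide)
  · exact tw_11_7_4
  · exact tw_11_7_5
  · exact tw_11_7_6
  · exact absurd hb (by decide)
  · exact tw_11_7_8
  · exact tw_11_7_9
  · exact tw_11_7_10
  · exact absurd hb (by decide)
  · exact tw_11_7_12

theorem tw_11_8 : enumC 13 (searchF 13 ps13) 7 140737488401168 2319 8 = true := by
  refine enumC_intro 13 (searchF 13 ps13) 6 140737488401168 2319 8 ?_
  intro v hv hb
  interval_cases v
  · exact absurd hb (by decide)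
  · exact absurd hb (by decide)
  · exact absurd hb (by decide)
  · exact absurd hb (by decide)
  · exact tw_11_8_4
  · exact tw_11_8_5
  · exact tw_11_8_6
  · exact tw_11_8_7
  · exact absurd hb (by decide)
  · exact tw_11_8_9
  · exact tw_11_8_10
  · exact absurd hb (by decide)
  · exact tw_11_8_12

theorem tw_11_9 : enumC 13 (searchF 13 ps13) 7 158329674445584 2575 9 = true := by
  refine enumC_intro 13 (searchF 13 ps13) 6 158329674445584 2575 9 ?_
  intro v hv hb
  interval_cases v
  · exact absurd hb (by decide)
  · exact absurd hb (by decide)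
  · exact absurd hb (by decide)
  · exact absurd hb (by decide)
  · exact tw_11_9_4
  · exact tw_11_9_5
  · exact tw_11_9_6
  · exact tw_11_9_7
  · exact tw_11_9_8
  · exact absurd hb (by decide)
  · exact tw_11_9_10
  · exact absurd hb (by decide)
  · exact tw_11_9_12

theorem tw_11_10 : enumC 13 (searchF 13 ps13) 7 175921860490000 3087 10 = true := by
  refine enumC_intro 13 (searchF 13 ps13) 6 175921860490000 3087 10 ?_
  intro v hv hb
  interval_cases v
  · exact absurd hb (by decide)
  · exact absurd hb (by decide)
  · exact absurd hb (by decide)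
  · exact absurd hb (by decide)
  · exact tw_11_10_4
  · exact tw_11_10_5
  · exact tw_11_10_6
  · exact tw_11_10_7
  · exact tw_11_10_8
  · exact tw_11_10_9
  · exact absurd hb (by decide)
  · exact absurd hb (by decide)
  · exact tw_11_10_12

theorem tw_11_12 : enumC 13 (searchF 13 ps13) 7 211106232578832 6159 12 = true := by
  refine enumC_intro 13 (searchF 13 ps13) 6 211106232578832 6159 12 ?_
  intro v hv hb
  interval_cases v
  · exact absurd hb (by decide)
  · exact absurd hb (by decide)
  · exact absurd hb (by decide)
  · exact absurd hb (by decide)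
  · exact tw_11_12_4
  · exact tw_11_12_5
  · exact tw_11_12_6
  · exact tw_11_12_7
  · exact tw_11_12_8
  · exact tw_11_12_9
  · exact tw_11_12_10
  · exact absurd hb (by decide)
  · exact absurd hb (by decide)

theorem tw_12_4 : enumC 13 (searchF 13 ps13) 7 1125899906892560 4127 4 = true := by
  refine enumC_intro 13 (searchF 13 ps13) 6 1125899906892560 4127 4 ?_
  intro v hv hb
  interval_cases v
  · exact absurd hb (by decide)
  · exact absurd hb (by decide)
  · exact absurd hb (by decide)
  · exact absurd hb (by decide)
  · exact absurd hb (by decide)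
  · exact tw_12_4_5
  · exact tw_12_4_6
  · exact tw_12_4_7
  · exact tw_12_4_8
  · exact tw_12_4_9
  · exact tw_12_4_10
  · exact tw_12_4_11
  · exact absurd hb (by decide)

theorem tw_12_5 : enumC 13 (searchF 13 ps13) 7 1407374883603216 4143 5 = true := by
  refine enumC_intro 13 (searchF 13 ps13) 6 1407374883603216 4143 5 ?_
  intro v hv hb
  interval_cases v
  · exact absurd hb (by decide)
  · exact absurd hb (by decide)
  · exact absurd hb (by decide)
  · exact absurd hb (by decide)
  · exact tw_12_5_4
  · exact absurd hb (by decide)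
  · exact tw_12_5_6
  · exact tw_12_5_7
  · exact tw_12_5_8
  · exact tw_12_5_9
  · exact tw_12_5_10
  · exact tw_12_5_11
  · exact absurd hb (by decide)

theorem tw_12_6 : enumC 13 (searchF 13 ps13) 7 1688849860313872 4175 6 = true := by
  refine enumC_intro 13 (searchF 13 ps13) 6 1688849860313872 4175 6 ?_
  intro v hv hb
  interval_cases v
  · exact absurd hb (by decide)
  · exact absurd hb (by decide)
  · exact absurd hb (by decide)
  · exact absurd hb (by decide)
  · exact tw_12_6_4
  · exact tw_12_6_5
  · exact absurd hb (by decide)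
  · exact tw_12_6_7
  · exact tw_12_6_8
  · exact tw_12_6_9
  · exact tw_12_6_10
  · exact tw_12_6_11
  · exact absurd hb (by decide)

theorem tw_12_7 : enumC 13 (searchF 13 ps13) 7 1970324837024528 4239 7 = true := by
  refine enumC_intro 13 (searchF 13 ps13) 6 1970324837024528 4239 7 ?_
  intro v hv hb
  interval_cases v
  · exact absurd hb (by decide)
  · exact absurd hb (by decide)
  · exact absurd hb (by decide)
  · exact absurd hb (by decide)
  · exact tw_12_7_4
  · exact tw_12_7_5
  · exact tw_12_7_6
  · exact absurd hb (by decide)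
  · exact tw_12_7_8
  · exact tw_12_7_9
  · exact tw_12_7_10
  · exact tw_12_7_11
  · exact absurd hb (by decide)

theorem tw_12_8 : enumC 13 (searchF 13 ps13) 7 2251799813735184 4367 8 = true := by
  refine enumC_intro 13 (searchF 13 ps13) 6 2251799813735184 4367 8 ?_
  intro v hv hb
  interval_cases v
  · exact absurd hb (by decide)
  · exact absurd hb (by decide)
  · exact absurd hb (by decide)
  · exact absurd hb (by decide)
  · exact tw_12_8_4
  · exact tw_12_8_5
  · exact tw_12_8_6
  · exact tw_12_8_7
  · exact absurd hb (by decide)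
  · exact tw_12_8_9
  · exact tw_12_8_10
  · exact tw_12_8_11
  · exact absurd hb (by decide)

theorem tw_12_9 : enumC 13 (searchF 13 ps13) 7 2533274790445840 4623 9 = true := by
  refine enumC_intro 13 (searchF 13 ps13) 6 2533274790445840 4623 9 ?_
  intro v hv hb
  interval_cases v
  · exact absurd hb (by decide)
  · exact absurd hb (by decide)
  · exact absurd hb (by decide)
  · exact absurd hb (by decide)
  · exact tw_12_9_4
  · exact tw_12_9_5
  · exact tw_12_9_6
  · exact tw_12_9_7
  · exact tw_12_9_8
  · exact absurd hb (by decide)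
  · exact tw_12_9_10
  · exact tw_12_9_11
  · exact absurd hb (by decide)

theorem tw_12_10 : enumC 13 (searchF 13 ps13) 7 2814749767156496 5135 10 = true := by
  refine enumC_intro 13 (searchF 13 ps13) 6 2814749767156496 5135 10 ?_
  intro v hv hb
  interval_cases v
  · exact absurd hb (by decide)
  · exact absurd hb (by decide)
  · exact absurd hb (by decide)
  · exact absurd hb (by decide)
  · exact tw_12_10_4
  · exact tw_12_10_5
  · exact tw_12_10_6
  · exact tw_12_10_7
  · exact tw_12_10_8
  · exact tw_12_10_9
  · exact absurd hb (by decide)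
  · exact tw_12_10_11
  · exact absurd hb (by decide)

theorem tw_12_11 : enumC 13 (searchF 13 ps13) 7 3096224743867152 6159 11 = true := by
  refine enumC_intro 13 (searchF 13 ps13) 6 3096224743867152 6159 11 ?_
  intro v hv hb
  interval_cases v
  · exact absurd hb (by decide)
  · exact absurd hb (by decide)
  · exact absurd hb (by decide)
  · exact absurd hb (by decide)
  · exact tw_12_11_4
  · exact tw_12_11_5
  · exact tw_12_11_6
  · exact tw_12_11_7
  · exact tw_12_11_8
  · exact tw_12_11_9
  · exact tw_12_11_10
  · exact absurd hb (by decide)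
  · exact absurd hb (by decide)

theorem tw_4 : enumC 13 (searchF 13 ps13) 8 17168 31 4 = true := by
  refine enumC_intro 13 (searchF 13 ps13) 7 17168 31 4 ?_
  intro v hv hb
  interval_cases v
  · exact absurd hb (by decide)
  · exact absurd hb (by decide)
  · exact absurd hb (by decide)
  · exact absurd hb (by decide)
  · exact absurd hb (by decide)
  · exact tw_4_5
  · exact tw_4_6
  · exact tw_4_7
  · exact tw_4_8
  · exact tw_4_9
  · exact tw_4_10
  · exact tw_4_11
  · exact tw_4_12

theorem tw_5 : enumC 13 (searchF 13 ps13) 8 21264 47 5 = true := by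
  refine enumC_intro 13 (searchF 13 ps13) 7 21264 47 5 ?_
  intro v hv hb
  interval_cases v
  · exact absurd hb (by decide)
  · exact absurd hb (by decide)
  · exact absurd hb (by decide)
  · exact absurd hb (by decide)
  · exact tw_5_4
  · exact absurd hb (by decide)
  · exact tw_5_6
  · exact tw_5_7
  · exact tw_5_8
  · exact tw_5_9
  · exact tw_5_10
  · exact tw_5_11
  · exact tw_5_12

theorem tw_6 : enumC 13 (searchF 13 ps13) 8 25360 79 6 = true := by
  refine enumC_intro 13 (searchF 13 ps13) 7 25360 79 6 ?_
  intro v hv hb
  interval_cases v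
  · exact absurd hb (by decide)
  · exact absurd hb (by decide)
  · exact absurd hb (by decide)
  · exact absurd hb (by decide)
  · exact tw_6_4
  · exact tw_6_5
  · exact absurd hb (by decide)
  · exact tw_6_7
  · exact tw_6_8
  · exact tw_6_9
  · exact tw_6_10
  · exact tw_6_11
  · exact tw_6_12

theorem tw_7 : enumC 13 (searchF 13 ps13) 8 29456 143 7 = true := by
  refine enumC_intro 13 (searchF 13 ps13) 7 29456 143 7 ?_
  intro v hv hb
  interval_cases v
  · exact absurd hb (by decide)
  · exact absurd hb (by decide)
  · exact absurd hb (by decide)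
  · exact absurd hb (by decide)
  · exact tw_7_4
  · exact tw_7_5
  · exact tw_7_6
  · exact absurd hb (by decide)
  · exact tw_7_8
  · exact tw_7_9
  · exact tw_7_10
  · exact tw_7_11
  · exact tw_7_12

theorem tw_8 : enumC 13 (searchF 13 ps13) 8 33552 271 8 = true := by
  refine enumC_intro 13 (searchF 13 ps13) 7 33552 271 8 ?_
  intro v hv hb
  interval_cases v
  · exact absurd hb (by decide)
  · exact absurd hb (by decide)
  · exact absurd hb (by decide)
  · exact absurd hb (by decide)
  · exact tw_8_4
  · exact tw_8_5
  · exact tw_8_6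
  · exact tw_8_7
  · exact absurd hb (by decide)
  · exact tw_8_9
  · exact tw_8_10
  · exact tw_8_11
  · exact tw_8_12

theorem tw_9 : enumC 13 (searchF 13 ps13) 8 37648 527 9 = true := by
  refine enumC_intro 13 (searchF 13 ps13) 7 37648 527 9 ?_
  intro v hv hb
  interval_cases v
  · exact absurd hb (by decide)
  · exact absurd hb (by decide)
  · exact absurd hb (by decide)
  · exact absurd hb (by decide)
  · exact tw_9_4
  · exact tw_9_5
  · exact tw_9_6
  · exact tw_9_7
  · exact tw_9_8
  · exact absurd hb (by decide)
  · exact tw_9_10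
  · exact tw_9_11
  · exact tw_9_12

theorem tw_10 : enumC 13 (searchF 13 ps13) 8 41744 1039 10 = true := by
  refine enumC_intro 13 (searchF 13 ps13) 7 41744 1039 10 ?_
  intro v hv hb
  interval_cases v
  · exact absurd hb (by decide)
  · exact absurd hb (by decide)
  · exact absurd hb (by decide)
  · exact absurd hb (by decide)
  · exact tw_10_4
  · exact tw_10_5
  · exact tw_10_6
  · exact tw_10_7
  · exact tw_10_8
  · exact tw_10_9
  · exact absurd hb (by decide)
  · exact tw_10_11
  · exact tw_10_12

theorem tw_11 : enumC 13 (searchF 13 ps13) 8 45840 2063 11 = true := by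
  refine enumC_intro 13 (searchF 13 ps13) 7 45840 2063 11 ?_
  intro v hv hb
  interval_cases v
  · exact absurd hb (by decide)
  · exact absurd hb (by decide)
  · exact absurd hb (by decide)
  · exact absurd hb (by decide)
  · exact tw_11_4
  · exact tw_11_5
  · exact tw_11_6
  · exact tw_11_7
  · exact tw_11_8
  · exact tw_11_9
  · exact tw_11_10
  · exact absurd hb (by decide)
  · exact tw_11_12

theorem tw_12 : enumC 13 (searchF 13 ps13) 8 49936 4111 12 = true := by
  refine enumC_intro 13 (searchF 13 ps13) 7 49936 4111 12 ?_
  intro v hv hb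
  interval_cases v
  · exact absurd hb (by decide)
  · exact absurd hb (by decide)
  · exact absurd hb (by decide)
  · exact absurd hb (by decide)
  · exact tw_12_4
  · exact tw_12_5
  · exact tw_12_6
  · exact tw_12_7
  · exact tw_12_8
  · exact tw_12_9
  · exact tw_12_10
  · exact tw_12_11
  · exact absurd hb (by decide)

theorem tw13 : enumC 13 (searchF 13 ps13) 9 784 15 3 = true := by
  refine enumC_intro 13 (searchF 13 ps13) 8 784 15 3 ?_
  intro v hv hb
  interval_cases v
  · exact absurd hb (by decide)
  · exact absurd hb (by decide)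
  · exact absurd hb (by decide)
  · exact absurd hb (by decide)
  · exact tw_4
  · exact tw_5
  · exact tw_6
  · exact tw_7
  · exact tw_8
  · exact tw_9
  · exact tw_10
  · exact tw_11
  · exact tw_12

end Cfsg.Agent.Helper9.AltGen
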