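import Mathlib
import Cfsg.Agent.Helper9.AltGen.Tw.Base

set_option autoImplicit false
set_option Elab.async false

/-!
A part of the enumeration on 13 points: the search holds at every cycle of the part.
-/

namespace Cfsg.Agent.Helper9.AltGen

open Cfsg.Agent.Helper9.T11

set_option maxRecDepth 100000 in
theorem tw_8_9_4 : enumC 13 (searchF 13 ps13) 6 313532646160 799 4 = true := by
  decide +kernel

set_option maxRecDepth 100000 in
theorem tw_8_9_5 : enumC 13 (searchF 13 ps13) 6 382252122896 815 5 = true := by
  decide +kernel

set_option maxRecDepth 100000 in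
theorem tw_8_9_6 : enumC 13 (searchF 13 ps13) 6 450971599632 847 6 = true := by
  decide +kernel

set_option maxRecDepth 100000 in
theorem tw_8_9_7 : enumC 13 (searchF 13 ps13) 6 519691076368 911 7 = true := by
  decide +kernel

set_option maxRecDepth 100000 in
theorem tw_8_9_10 : enumC 13 (searchF 13 ps13) 6 725849506576 1807 10 = true := by
  decide +kernel

set_option maxRecDepth 100000 in
theorem tw_8_9_11 : enumC 13 (searchF 13 ps13) 6 794568983312 2831 11 = true := by
  decide +kernel

set_option maxRecDepth 100000 in
theorem tw_8_9_12 : enumC 13 (searchF 13 ps13) 6 863288460048 4879 12 = true := by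
  decide +kernel

set_option maxRecDepth 100000 in
theorem tw_8_10_4 : enumC 13 (searchF 13 ps13) 6 4440996217616 1311 4 = true := by
  decide +kernel

set_option maxRecDepth 100000 in
theorem tw_8_10_5 : enumC 13 (searchF 13 ps13) 6 5540507845392 1327 5 = true := by
  decide +kernel

set_option maxRecDepth 100000 in
theorem tw_8_10_6 : enumC 13 (searchF 13 ps13) 6 6640019473168 1359 6 = true := by
  decide +kernel

set_option maxRecDepth 100000 in
theorem tw_8_10_7 : enumC 13 (searchF 13 ps13) 6 7739531100944 1423 7 = true := by
  decide +kernel

set_option maxRecDepth 100000 in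
theorem tw_8_10_9 : enumC 13 (searchF 13 ps13) 6 9938554356496 1807 9 = true := by
  decide +kernel

set_option maxRecDepth 100000 in
theorem tw_8_10_11 : enumC 13 (searchF 13 ps13) 6 12137577612048 3343 11 = true := by
  decide +kernel

set_option maxRecDepth 100000 in
theorem tw_8_10_12 : enumC 13 (searchF 13 ps13) 6 13237089239824 5391 12 = true := by
  decide +kernel

set_option maxRecDepth 100000 in
theorem tw_8_11_4 : enumC 13 (searchF 13 ps13) 6 70415988851472 2335 4 = true := by
  decide +kernel

set_option maxRecDepth 100000 in
theorem tw_8_11_5 : enumC 13 (searchF 13 ps13) 6 88008174895888 2351 5 = true := by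
  decide +kernel

set_option maxRecDepth 100000 in
theorem tw_8_11_6 : enumC 13 (searchF 13 ps13) 6 105600360940304 2383 6 = true := by
  decide +kernel

set_option maxRecDepth 100000 in
theorem tw_8_11_7 : enumC 13 (searchF 13 ps13) 6 123192546984720 2447 7 = true := by
  decide +kernel

set_option maxRecDepth 100000 in
theorem tw_8_11_9 : enumC 13 (searchF 13 ps13) 6 158376919073552 2831 9 = true := by
  decide +kernel

set_option maxRecDepth 100000 in
theorem tw_8_11_10 : enumC 13 (searchF 13 ps13) 6 175969105117968 3343 10 = true := by
  decide +kernel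

set_option maxRecDepth 100000 in
theorem tw_8_11_12 : enumC 13 (searchF 13 ps13) 6 211153477206800 6415 12 = true := by
  decide +kernel

end Cfsg.Agent.Helper9.AltGen
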